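import Cfsg.Agent.EqLemmas
import Mathlib.Algebra.GroupWithZero.Action.End
import Mathlib.GroupTheory.Index
import Mathlib.GroupTheory.GroupAction.Quotient
import Mathlib.GroupTheory.Perm.Basic

/-! Odd order groups on completely reducible modules: the notions, pairs of vectors, first bounds. -/

set_option autoImplicit false
set_option linter.style.haveILetI false

namespace Cfsg.Agent.OddBaseTwo

variable {A V : Type*} [Group A] [AddCommGroup V] [DistribMulAction A V]

/-- Stability of an additive subgroup under the action. -/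
def Inv (A : Type*) {V : Type*} [Group A] [AddCommGroup V] [DistribMulAction A V] (U : AddSubgroup V) : Prop :=
  ∀ a : A, ∀ v ∈ U, a • v ∈ U

/-- Complete reducibility. -/
def CR (A V : Type*) [Group A] [AddCommGroup V] [DistribMulAction A V] : Prop :=
  ∀ U : AddSubgroup V, Inv A U → ∃ W : AddSubgroup V, Inv A W ∧ U ⊓ W = ⊥ ∧ U ⊔ W = ⊤

/-- Irreducibility. -/
def Irr (A V : Type*) [Group A] [AddCommGroup V] [DistribMulAction A V] : Prop :=
  ∀ U : AddSubgroup V, Inv A U → U = ⊥ ∨ U = ⊤

/-- Two vectors whose common stabiliser is the kernel of the action. -/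
def Base (A V : Type*) [Group A] [AddCommGroup V] [DistribMulAction A V] : Prop :=
  ∃ v w : V, ∀ a : A, a • v = v → a • w = w → ∀ x : V, a • x = x

theorem Irr.cr (h : Irr A V) : CR A V := fun U hU => by
  rcases h U hU with rfl | rfl
  · exact ⟨⊤, fun _ _ _ => AddSubgroup.mem_top _, bot_inf_eq _, bot_sup_eq _⟩
  · exact ⟨⊥, fun a v hv => by rw [AddSubgroup.mem_bot.1 hv, smul_zero]; exact zero_mem _,
      inf_bot_eq _, sup_bot_eq _⟩

/-- The image of `A` in the permutations of `V`. -/
abbrev Img (A V : Type*) [Group A] [AddCommGroup V] [DistribMulAction A V] : Subgroup (Equiv.Perm V) :=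
  (MulAction.toPermHom A V).range

theorem Img.exists_eq (g : Img A V) : ∃ a : A, ∀ v : V, (g : Equiv.Perm V) v = a • v := by
  obtain ⟨a, ha⟩ := g.2
  exact ⟨a, fun v => by rw [← ha]; rfl⟩

instance : DistribMulAction (Img A V) V where
  smul g v := (g : Equiv.Perm V) v
  one_smul _ := rfl
  mul_smul _ _ _ := rfl
  smul_zero g := by
    obtain ⟨a, ha⟩ := Img.exists_eq g
    exact (ha 0).trans (smul_zero a)
  smul_add g v w := by
    obtain ⟨a, ha⟩ := Img.exists_eq g
    exact (ha _).trans ((smul_add a v w).trans (by rw [← ha, ← ha]; rfl))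

instance : FaithfulSMul (Img A V) V := ⟨fun h => Subtype.ext (Equiv.ext h)⟩

theorem Img.smul_def (g : Img A V) (v : V) : g • v = (g : Equiv.Perm V) v := rfl

/-- The element of the image given by `a`. -/
def Img.of (a : A) : Img A V := ⟨MulAction.toPermHom A V a, a, rfl⟩

theorem Img.of_smul (a : A) (v : V) : (Img.of a : Img A V) • v = a • v := rfl

theorem Img.exists_of (g : Img A V) : ∃ a : A, g = Img.of a := by
  obtain ⟨_, a, rfl⟩ := g
  exact ⟨a, rfl⟩

instance [Finite A] : Finite (Img A V) :=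
  Finite.of_surjective _ (MulAction.toPermHom A V).rangeRestrict_surjective

theorem Img.card [Finite A] : Nat.card (Img A V) = (MulAction.toPermHom A V).ker.index :=
  (Subgroup.index_ker _).symm

theorem Img.odd [Finite A] (hA : Odd (Nat.card A)) : Odd (Nat.card (Img A V)) :=
  hA.of_dvd_nat (Subgroup.card_range_dvd _)

theorem Img.inv_iff (U : AddSubgroup V) : Inv (Img A V) U ↔ Inv A U := by
  refine ⟨fun h a v hv => h (Img.of a) v hv, fun h g v hv => ?_⟩
  obtain ⟨a, rfl⟩ := Img.exists_of g
  exact h a v hv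

theorem Img.cr_iff : CR (Img A V) V ↔ CR A V := by
  simp only [CR, Img.inv_iff]

theorem Img.irr_iff : Irr (Img A V) V ↔ Irr A V := by
  simp only [Irr, Img.inv_iff]

theorem Img.base_iff : Base (Img A V) V ↔ Base A V := by
  constructor
  · rintro ⟨v, w, h⟩
    exact ⟨v, w, fun a hv hw => h (Img.of a) hv hw⟩
  · rintro ⟨v, w, h⟩
    refine ⟨v, w, fun g hv hw => ?_⟩
    obtain ⟨a, rfl⟩ := Img.exists_of g
    exact h a hv hw

theorem eq_one_of_smul_eq [FaithfulSMul A V] {a : A} (h : ∀ x : V, a • x = x) : a = 1 :=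
  eq_of_smul_eq_smul (α := V) fun x => by rw [h, one_smul]

/-- In a group of odd order an element whose square is one is one. -/
theorem eq_one_of_sq [Finite A] (hA : Odd (Nat.card A)) {a : A} (h : a * a = 1) : a = 1 := by
  have h2 : orderOf a ∣ 2 := orderOf_dvd_of_pow_eq_one (by rw [pow_two, h])
  rcases (Nat.dvd_prime Nat.prime_two).1 h2 with h1 | h1
  · exact orderOf_eq_one_iff.1 h1
  · exact absurd (h1 ▸ (orderOf_dvd_natCard a)) hA.not_two_dvd_nat

/-- An element of odd order sending `x` to `-x` fixes `x`. -/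
theorem neg_eq_of_smul_eq_neg [Finite A] (hA : Odd (Nat.card A)) {a : A} {x : V} (h : a • x = -x) : -x = x := by
  have h2 : (a * a) • x = x := by rw [mul_smul, h, smul_neg, h, neg_neg]
  obtain ⟨k, hk⟩ := hA
  have ha : a = (a * a) ^ (k + 1) := by
    rw [← pow_two, ← pow_mul]
    calc a = a ^ (2 * k + 1) * a := by rw [← hk, pow_card_eq_one', one_mul]
      _ = _ := by rw [← pow_succ, show 2 * k + 1 + 1 = 2 * (k + 1) by omega]
  have hfix : (a * a) ∈ MulAction.stabilizer A x := h2
  have h3 : a • x = x := ha ▸ Subgroup.pow_mem _ hfix (k + 1)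
  exact h.symm.trans h3

/-- Orbits of groups of odd order have odd size. -/
theorem odd_orbit [Finite A] (hA : Odd (Nat.card A)) (x : V) : Odd (MulAction.orbit A x).ncard := by
  refine hA.of_dvd_nat ?_
  rw [← MulAction.index_stabilizer]
  exact Subgroup.index_dvd_card _

/-- A non-zero vector has an orbit of at most half the non-zero vectors. -/
theorem two_mul_orbit_le [Finite A] [Finite V] (hA : Odd (Nat.card A)) {x : V} (hx : x ≠ 0) (h2 : ¬ 2 ∣ Nat.card V) :
    2 * (MulAction.orbit A x).ncard ≤ Nat.card V - 1 := by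
  classical
  set O := MulAction.orbit A x
  have hne : ∀ y : V, y ≠ 0 → -y ≠ y := by
    intro y hy h
    refine h2 ?_
    have hy2 : 2 • y = 0 := by rw [two_nsmul]; nth_rewrite 1 [← h]; exact neg_add_cancel y
    exact addOrderOf_eq_prime hy2 hy ▸ addOrderOf_dvd_natCard y
  have hdisj : Disjoint O (-O) := by
    rw [Set.disjoint_left]
    rintro y hy hy'
    obtain ⟨a, rfl⟩ := hy
    obtain ⟨b, hb⟩ := Set.mem_neg.1 hy'
    have hb : b • x = -(a • x) := hb
    have h1 : (a⁻¹ * b) • x = -x := by rw [mul_smul, hb, smul_neg, inv_smul_smul]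
    exact hne x hx (neg_eq_of_smul_eq_neg hA h1)
  have h0 : ∀ y ∈ O, y ≠ 0 := by
    rintro _ ⟨a, rfl⟩ h
    exact hx ((smul_eq_zero_iff_eq a).1 h)
  have hsub : O ∪ -O ⊆ {0}ᶜ := by
    rintro y (hy | hy)
    · exact h0 y hy
    · intro h
      exact h0 _ (Set.mem_neg.1 hy) (by rw [h, neg_zero])
  have := Set.ncard_le_ncard hsub (Set.toFinite _)
  rw [Set.ncard_union_eq hdisj, Set.ncard_compl, Set.ncard_singleton,
    show (-O).ncard = O.ncard by rw [← Set.image_neg_eq_neg, Set.ncard_image_of_injective _ neg_injective]] at this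
  omega

/-- A base of two vectors bounds the group by the square of the module. -/
theorem card_le_sq [Finite A] [Finite V] [FaithfulSMul A V] (h : Base A V) :
    Nat.card A ≤ Nat.card V * Nat.card V := by
  obtain ⟨v, w, h⟩ := h
  rw [← Nat.card_prod]
  refine Nat.card_le_card_of_injective (fun a : A => (a • v, a • w)) fun a b hab => ?_
  simp only [Prod.mk.injEq] at hab
  have : b⁻¹ * a = 1 := eq_one_of_smul_eq
    (h _ (by rw [mul_smul, hab.1, inv_smul_smul]) (by rw [mul_smul, hab.2, inv_smul_smul]))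
  exact (inv_mul_eq_one.1 this).symm

/-- A base of two vectors bounds the group by two orbit lengths. -/
theorem four_mul_card_le [Finite A] [Finite V] [FaithfulSMul A V] [Nontrivial V] (hA : Odd (Nat.card A))
    (h2 : ¬ 2 ∣ Nat.card V) (h : Base A V) :
    4 * Nat.card A ≤ (Nat.card V - 1) * (Nat.card V - 1) := by
  obtain ⟨v, w, h⟩ := h
  have hV : 3 ≤ Nat.card V := by
    have := Finite.one_lt_card (α := V)
    by_contra hc
    exact h2 (show Nat.card V = 2 by omega).symm.dvd
  have hb : ∀ x : V, 2 * (MulAction.orbit A x).ncard ≤ Nat.card V - 1 := by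
    intro x
    by_cases hx : x = 0
    · subst hx
      rw [show MulAction.orbit A (0 : V) = {0} from Set.eq_singleton_iff_unique_mem.2
        ⟨MulAction.mem_orbit_self _, by rintro _ ⟨a, rfl⟩; exact smul_zero a⟩, Set.ncard_singleton]
      omega
    · exact two_mul_orbit_le hA hx h2
  have h1 : Nat.card A ≤ (MulAction.orbit A v).ncard * (MulAction.orbit A w).ncard := by
    rw [← Nat.card_coe_set_eq, ← Nat.card_coe_set_eq, ← Nat.card_prod]
    refine Nat.card_le_card_of_injective
      (fun a : A => ((⟨a • v, a, rfl⟩ : MulAction.orbit A v), (⟨a • w, a, rfl⟩ : MulAction.orbit A w))) fun a b hab => ?_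
    have h1 : a • v = b • v := congrArg (fun q => (q.1 : MulAction.orbit A v).1) hab
    have h2 : a • w = b • w := congrArg (fun q => (q.2 : MulAction.orbit A w).1) hab
    have : b⁻¹ * a = 1 := eq_one_of_smul_eq
      (h _ (by rw [mul_smul, h1, inv_smul_smul]) (by rw [mul_smul, h2, inv_smul_smul]))
    exact (inv_mul_eq_one.1 this).symm
  calc 4 * Nat.card A ≤ (2 * (MulAction.orbit A v).ncard) * (2 * (MulAction.orbit A w).ncard) := by
        rw [show ∀ a b : ℕ, (2 * a) * (2 * b) = 4 * (a * b) from fun a b => by ring]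
        exact Nat.mul_le_mul_left 4 h1
    _ ≤ _ := Nat.mul_le_mul (hb v) (hb w)

/-- Two pairs with the kernel as common stabiliser, in different orbits. -/
theorem exists_two_pairs [Finite A] [Nontrivial V] (hA : Odd (Nat.card A)) (h : Base A V) :
    ∃ v w v' w' : V, (∀ a : A, a • v = v → a • w = w → ∀ x : V, a • x = x) ∧
      (∀ a : A, a • v' = v' → a • w' = w' → ∀ x : V, a • x = x) ∧
      ∀ a : A, ¬ (a • v = v' ∧ a • w = w') ∧ ¬ (a • v' = v ∧ a • w' = w) := by
  obtain ⟨v, w, h⟩ := h
  by_cases hvw : v = w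
  · subst hvw
    by_cases hv : v = 0
    · subst hv
      obtain ⟨x, hx⟩ := exists_ne (0 : V)
      refine ⟨0, 0, x, 0, h, fun a _ _ => h a (smul_zero a) (smul_zero a), fun a => ⟨?_, ?_⟩⟩
      · rintro ⟨h1, -⟩; exact hx ((smul_zero a).symm.trans h1).symm
      · rintro ⟨h1, -⟩; exact hx ((smul_eq_zero_iff_eq a).1 h1)
    · refine ⟨v, 0, 0, v, fun a h1 _ => h a h1 h1, fun a _ h1 => h a h1 h1, fun a => ⟨?_, ?_⟩⟩
      · rintro ⟨h1, -⟩; exact hv ((smul_eq_zero_iff_eq a).1 h1)
      · rintro ⟨h1, -⟩; exact hv (((smul_zero a).symm.trans h1).symm)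
  · refine ⟨v, w, w, v, h, fun a h1 h2 => h a h2 h1, fun a => ⟨?_, ?_⟩⟩ <;>
    · rintro ⟨h1, h2⟩
      have hfix := h (a * a) (by rw [mul_smul]; first | rw [h1, h2] | rw [h2, h1])
        (by rw [mul_smul]; first | rw [h2, h1] | rw [h1, h2])
      have hg : (Img.of a : Img A V) * Img.of a = 1 := eq_one_of_smul_eq (V := V) fun x => by
        rw [mul_smul, Img.of_smul, Img.of_smul, ← mul_smul, hfix]
      have hg1 := eq_one_of_sq (Img.odd hA) hg
      have : ∀ x : V, a • x = x := fun x => by rw [← Img.of_smul, hg1, one_smul]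
      first
        | exact hvw ((this v).symm.trans h1)
        | exact hvw ((this v).symm.trans h2)

/-- Two pairs are enough: counting. -/
theorem base_of_count [Finite A] [Finite V] [FaithfulSMul A V] (hA : Odd (Nat.card A)) {K : ℕ}
    (hK : ∀ a : A, a ≠ 1 → {v : V | a • v = v}.ncard * {v : V | a • v = v}.ncard ≤ K)
    (hlt : Nat.card A * K ≤ 2 * (Nat.card V * Nat.card V)) (hK0 : 0 < K) : Base A V := by
  classical
  by_contra hc
  haveI := Fintype.ofFinite A
  haveI := Fintype.ofFinite V
  let T : A → Finset (V × V) := fun a => Finset.univ.filter fun q => a • q.1 = q.1 ∧ a • q.2 = q.2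
  have hcard : ∀ a : A, (T a).card = {v : V | a • v = v}.ncard * {v : V | a • v = v}.ncard := by
    intro a
    rw [Set.ncard_eq_toFinset_card', ← Finset.card_product]
    congr 1
    ext q
    simp [T]
  have htwo : ∀ q : V × V, 2 ≤ ((Finset.univ.erase (1 : A)).filter fun a => q ∈ T a).card := by
    intro q
    have : ∃ a : A, a • q.1 = q.1 ∧ a • q.2 = q.2 ∧ a ≠ 1 := by
      by_contra hno
      push Not at hno
      exact hc ⟨q.1, q.2, fun a h1 h2 x => by rw [hno a h1 h2, one_smul]⟩
    obtain ⟨a, h1, h2, ha⟩ := this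
    have hinv : a⁻¹ ≠ a := fun h => ha (eq_one_of_sq hA (by nth_rewrite 1 [← h]; exact inv_mul_cancel a))
    refine Finset.one_lt_card.2 ⟨a⁻¹, ?_, a, ?_, hinv⟩
    · simp only [Finset.mem_filter, Finset.mem_erase, Finset.mem_univ, and_true, T, true_and]
      exact ⟨inv_ne_one.2 ha, inv_smul_eq_iff.2 h1.symm, inv_smul_eq_iff.2 h2.symm⟩
    · simp [T, ha, h1, h2]
  have hsum : ∑ a ∈ Finset.univ.erase (1 : A), (T a).card =
      ∑ q : V × V, ((Finset.univ.erase (1 : A)).filter fun a => q ∈ T a).card := by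
    simp only [Finset.card_filter]
    rw [Finset.sum_comm]
    refine Finset.sum_congr rfl fun a _ => ?_
    rw [← Finset.card_filter]
    congr 1
    ext q
    simp
  have hle : ∑ a ∈ Finset.univ.erase (1 : A), (T a).card ≤ (Nat.card A - 1) * K := by
    refine (Finset.sum_le_card_nsmul _ _ K fun a ha => (hcard a).trans_le (hK a (Finset.ne_of_mem_erase ha))).trans ?_
    rw [Finset.card_erase_of_mem (Finset.mem_univ _), Finset.card_univ, ← Nat.card_eq_fintype_card, smul_eq_mul]
  have hge : 2 * (Nat.card V * Nat.card V) ≤ ∑ q : V × V, ((Finset.univ.erase (1 : A)).filter fun a => q ∈ T a).card := by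
    have := Finset.card_nsmul_le_sum (Finset.univ : Finset (V × V)) _ 2 fun q _ => htwo q
    rw [Finset.card_univ, smul_eq_mul, Fintype.card_prod, ← Nat.card_eq_fintype_card] at this
    linarith
  have h1 : 1 ≤ Nat.card A := Nat.card_pos
  have h3 : (Nat.card A - 1) * K + K = Nat.card A * K := by
    rw [← Nat.succ_mul, Nat.succ_eq_add_one, Nat.sub_add_cancel h1]
  omega

end Cfsg.Agent.OddBaseTwo
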