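import Cfsg.Agent.EqLemmas
import Mathlib.Tactic

/-! The numerical inequalities for bases of size two. -/

set_option autoImplicit false

namespace Cfsg.Agent.OddBaseTwo

theorem cube_le_two_pow {n : ℕ} (hn : 25 ≤ n) : (n ^ 3) ^ 9 ≤ 2 ^ (4 * n + 27) := by
  induction n, hn using Nat.le_induction with
  | base => norm_num
  | succ n hn ih =>
    have h2 : ((25 * (n + 1)) ^ 3) ^ 9 ≤ ((26 * n) ^ 3) ^ 9 :=
      Nat.pow_le_pow_left (Nat.pow_le_pow_left (by omega) _) _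
    have h3 : ((26 : ℕ) ^ 3) ^ 9 ≤ 16 * (25 ^ 3) ^ 9 := by norm_num
    simp only [mul_pow] at h2
    have h4 : ((25 : ℕ) ^ 3) ^ 9 * (((n + 1) ^ 3) ^ 9) ≤ (25 ^ 3) ^ 9 * 2 ^ (4 * (n + 1) + 27) := by
      refine h2.trans ((Nat.mul_le_mul h3 ih).trans_eq ?_)
      rw [show 4 * (n + 1) + 27 = (4 * n + 27) + 4 by ring, pow_add]
      ring
    exact Nat.le_of_mul_le_mul_left h4 (by positivity)

/-- The subsets count in composite degree. -/
theorem count_composite {n h c : ℕ} (hn : 25 ≤ n) (hh : 4 * h ≤ (n - 1) * (n - 1)) (hc : 9 * c ≤ 5 * n) :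
    n * h * 2 ^ c ≤ 2 * 2 ^ n := by
  obtain ⟨k, rfl⟩ : ∃ k, n = c + k := ⟨n - c, by omega⟩
  have h1 : (c + k) ^ 3 ≤ 2 ^ (k + 3) := by
    rw [← Nat.pow_le_pow_iff_left (by norm_num : (9 : ℕ) ≠ 0), ← pow_mul 2]
    exact (cube_le_two_pow hn).trans (Nat.pow_le_pow_right (by norm_num) (by omega))
  have h2 : 4 * ((c + k) * h) ≤ (c + k) ^ 3 := by
    calc 4 * ((c + k) * h) = (c + k) * (4 * h) := by ring
      _ ≤ (c + k) * ((c + k) * (c + k)) :=
        Nat.mul_le_mul_left _ (hh.trans (Nat.mul_le_mul (Nat.sub_le _ _) (Nat.sub_le _ _)))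
      _ = _ := by ring
  have h3 : (c + k) * h ≤ 2 * 2 ^ k := by
    have h5 : 2 ^ (k + 3) = 4 * (2 * 2 ^ k) := by rw [pow_add]; ring
    omega
  calc (c + k) * h * 2 ^ c ≤ 2 * 2 ^ k * 2 ^ c := Nat.mul_le_mul_right _ h3
    _ = _ := by rw [pow_add]; ring

theorem six_pow_le {n : ℕ} (hn : 3 ≤ n) : (n ^ 2) ^ 3 ≤ 8 * 2 ^ (2 * n + 1) := by
  rcases Nat.lt_or_ge n 4 with h | h
  · rw [show n = 3 by omega]; norm_num
  induction n, h using Nat.le_induction with
  | base => norm_num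
  | succ n hn4 ih =>
    have h2 : ((4 * (n + 1)) ^ 2) ^ 3 ≤ ((5 * n) ^ 2) ^ 3 :=
      Nat.pow_le_pow_left (Nat.pow_le_pow_left (by omega) _) _
    have h3 : ((5 : ℕ) ^ 2) ^ 3 ≤ 4 * (4 ^ 2) ^ 3 := by norm_num
    simp only [mul_pow] at h2
    have h4 : ((4 : ℕ) ^ 2) ^ 3 * (((n + 1) ^ 2) ^ 3) ≤ (4 ^ 2) ^ 3 * (8 * 2 ^ (2 * (n + 1) + 1)) := by
      refine h2.trans ((Nat.mul_le_mul h3 (ih (by omega))).trans_eq ?_)
      rw [show 2 * (n + 1) + 1 = (2 * n + 1) + 2 by ring, pow_add 2 (2 * n + 1)]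
      ring
    exact Nat.le_of_mul_le_mul_left h4 (by positivity)

/-- The subsets count in prime degree. -/
theorem count_prime {n h c : ℕ} (hn : 3 ≤ n) (hh : 2 * h ≤ n - 1) (hc : 3 * c ≤ n + 2) :
    n * h * 2 ^ c ≤ 2 * 2 ^ n := by
  obtain ⟨k, rfl⟩ : ∃ k, n = c + k := ⟨n - c, by omega⟩
  have h1 : (c + k) ^ 2 ≤ 2 * 2 ^ (k + 1) := by
    rw [← Nat.pow_le_pow_iff_left (by norm_num : (3 : ℕ) ≠ 0)]
    refine (six_pow_le hn).trans ?_
    rw [mul_pow, ← pow_mul 2]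
    exact Nat.mul_le_mul (by norm_num) (Nat.pow_le_pow_right (by norm_num) (by omega))
  have h2 : 2 * ((c + k) * h) ≤ (c + k) ^ 2 := by
    calc 2 * ((c + k) * h) = (c + k) * (2 * h) := by ring
      _ ≤ (c + k) * (c + k) := Nat.mul_le_mul_left _ (hh.trans (Nat.sub_le _ _))
      _ = _ := by ring
  have h3 : (c + k) * h ≤ 2 * 2 ^ k := by
    have : 2 ^ (k + 1) = 2 * 2 ^ k := by rw [pow_add]; ring
    omega
  calc (c + k) * h * 2 ^ c ≤ 2 * 2 ^ k * 2 ^ c := Nat.mul_le_mul_right _ h3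
    _ = _ := by rw [pow_add]; ring

/-- The odd divisors of the degree of a finite field. -/
theorem index_cases {p d i : ℕ} (hp : p.Prime) (hi : Odd i) (hid : i ∣ d) (hd : 0 < d) :
    i = 1 ∨ (i = 3 ∧ p ^ d = 8) ∨ (27 ≤ p ^ d ∧ 6 * i ≤ p ^ d) := by
  have hle := Nat.le_of_dvd hd hid
  obtain ⟨t, rfl⟩ := hi
  rcases Nat.eq_zero_or_pos t with rfl | ht
  · left; rfl
  right
  rcases Nat.lt_or_ge d 5 with h5 | h5
  · obtain rfl : t = 1 := by omega
    obtain rfl : d = 3 := by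
      interval_cases d <;> omega
    rcases Nat.lt_or_ge p 3 with h | h
    · left
      obtain rfl : p = 2 := by have := hp.two_le; omega
      exact ⟨rfl, rfl⟩
    · right
      have : 3 ^ 3 ≤ p ^ 3 := Nat.pow_le_pow_left h 3
      omega
  · right
    have h6 : 6 * d ≤ 2 ^ d ∧ 27 ≤ 2 ^ d := by
      clear hle hid hd
      induction d, h5 using Nat.le_induction with
      | base => norm_num
      | succ n hn ih => rw [pow_succ]; omega
    have : 2 ^ d ≤ p ^ d := Nat.pow_le_pow_left hp.two_le d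
    omega

theorem two_mul_le_pow {p d : ℕ} (hp : p.Prime) : 2 * d ≤ p ^ d := by
  refine le_trans ?_ (Nat.pow_le_pow_left hp.two_le d)
  induction d with
  | zero => norm_num
  | succ n ih =>
    rw [pow_succ]
    have : 1 ≤ 2 ^ n := Nat.one_le_two_pow
    omega

theorem eighteen_pow_lt {e : ℕ} (he : 27 ≤ e) : e ^ 18 < 64 * 4 ^ (2 * e - 6) := by
  induction e, he using Nat.le_induction with
  | base => norm_num
  | succ n hn ih =>
    have h2 : (27 * (n + 1)) ^ 18 ≤ (28 * n) ^ 18 := Nat.pow_le_pow_left (by omega) _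
    have h3 : (28 : ℕ) ^ 18 ≤ 16 * 27 ^ 18 := by norm_num
    rw [mul_pow, mul_pow] at h2
    have h4 : (27 : ℕ) ^ 18 * (n + 1) ^ 18 < 27 ^ 18 * (64 * 4 ^ (2 * (n + 1) - 6)) := by
      refine (h2.trans (Nat.mul_le_mul_right _ h3)).trans_lt ?_
      rw [show 2 * (n + 1) - 6 = (2 * n - 6) + 2 by omega, pow_add]
      calc 16 * 27 ^ 18 * n ^ 18 < 16 * 27 ^ 18 * (64 * 4 ^ (2 * n - 6)) :=
            Nat.mul_lt_mul_of_pos_left ih (by positivity)
        _ = _ := by ring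
    exact Nat.lt_of_mul_lt_mul_left h4

/-- The bound on the order of a primitive group against its module. -/
theorem count_quasi {p d m e i b : ℕ} (hp : p.Prime) (hd : 0 < d) (hi : Odd i) (hid : i ∣ d) (he : Odd e)
    (he1 : e ≠ 1) (hem : e ≤ m) (hdiv : ∀ r : ℕ, r.Prime → r ∣ e → r ∣ p ^ d - 1) (hQ : 4 ≤ p ^ d)
    (hb : b ≤ e * e * (e * e)) (h3 : e = 3 → b ≤ 1) (h5 : e = 5 → b ≤ 15) (h7 : e = 7 → b ≤ 9)
    (h9 : e = 9 → b ≤ 5) :
    (i * (p ^ d - 1) * (e * e) * b) ^ 3 ≤ 8 * ((p ^ d) ^ m) ^ 2 := by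
  rw [← pow_mul]
  refine le_trans ?_ (Nat.mul_le_mul_left 8 (Nat.pow_le_pow_right (by omega) (Nat.mul_le_mul_right 2 hem)))
  set Q := p ^ d with hQdef
  have hQ1 : Q - 1 ≤ Q := Nat.sub_le _ _
  have hcases := index_cases hp hi hid hd
  rw [← hQdef] at hcases
  have he3 : 3 ≤ e := by obtain ⟨t, rfl⟩ := he; omega
  rcases Nat.lt_or_ge e 11 with hlt | hge
  · have hee : e = 3 ∨ e = 5 ∨ e = 7 ∨ e = 9 := by obtain ⟨t, rfl⟩ := he; omega
    rcases hee with rfl | rfl | rfl | rfl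
    · have hb' := h3 rfl
      have hr : 3 ∣ Q - 1 := hdiv 3 Nat.prime_three dvd_rfl
      have key : i * (Q - 1) * 9 ≤ 2 * Q ^ 2 := by
        rcases hcases with rfl | ⟨rfl, h8⟩ | ⟨h27, h6⟩
        · rcases Nat.lt_or_ge Q 5 with h | h
          · rw [show Q = 4 by omega]; norm_num
          · nlinarith
        · omega
        · nlinarith [Nat.mul_le_mul h6 hQ1]
      calc (i * (Q - 1) * (3 * 3) * b) ^ 3 ≤ (i * (Q - 1) * 9 * 1) ^ 3 :=
            Nat.pow_le_pow_left (Nat.mul_le_mul (le_of_eq (by ring)) hb') _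
        _ ≤ (2 * Q ^ 2) ^ 3 := Nat.pow_le_pow_left (by rw [mul_one]; exact key) _
        _ = _ := by ring
    · have hb' := h5 rfl
      have hr : 5 ∣ Q - 1 := hdiv 5 (by norm_num) dvd_rfl
      have h11 : i * i * i * 52734375 ≤ 8 * Q ^ 7 := by
        rcases hcases with rfl | ⟨rfl, h8⟩ | ⟨h27, h6⟩
        · rcases Nat.lt_or_ge Q 10 with h | h
          · -- the only candidate is six, which is no prime power
            exfalso
            have hQ6 : p ^ d = 6 := by omega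
            have h2 : 2 ∣ p := Nat.prime_two.dvd_of_dvd_pow (hQ6.symm ▸ (by norm_num : 2 ∣ 6) : 2 ∣ p ^ d)
            have h3' : 3 ∣ p := Nat.prime_three.dvd_of_dvd_pow (hQ6.symm ▸ (by norm_num : 3 ∣ 6) : 3 ∣ p ^ d)
            have e2 := (Nat.prime_dvd_prime_iff_eq Nat.prime_two hp).1 h2
            have e3 := (Nat.prime_dvd_prime_iff_eq Nat.prime_three hp).1 h3'
            omega
          · calc 1 * 1 * 1 * 52734375 ≤ 8 * 10 ^ 7 := by norm_num
              _ ≤ _ := Nat.mul_le_mul_left 8 (Nat.pow_le_pow_left h 7)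
        · omega
        · have h7' : 6 * i * (6 * i) * (6 * i) * 27 ^ 4 ≤ Q ^ 7 := by
            calc 6 * i * (6 * i) * (6 * i) * 27 ^ 4 ≤ Q * Q * Q * Q ^ 4 :=
                  Nat.mul_le_mul (Nat.mul_le_mul (Nat.mul_le_mul h6 h6) h6) (Nat.pow_le_pow_left h27 4)
              _ = _ := by ring
          nlinarith
      calc (i * (Q - 1) * (5 * 5) * b) ^ 3 ≤ (i * Q * 25 * 15) ^ 3 :=
            Nat.pow_le_pow_left (Nat.mul_le_mul (Nat.mul_le_mul (Nat.mul_le_mul le_rfl hQ1) le_rfl) hb') _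
        _ = i * i * i * 52734375 * Q ^ 3 := by ring
        _ ≤ 8 * Q ^ 7 * Q ^ 3 := Nat.mul_le_mul_right _ h11
        _ = _ := by ring
    · have hb' := h7 rfl
      have hr : 7 ∣ Q - 1 := hdiv 7 (by norm_num) dvd_rfl
      have h11 : i * i * i * 85766121 ≤ 8 * Q ^ 11 := by
        have hQ8 : 8 ≤ Q := by omega
        have h8' : 8 * 8 ^ 11 ≤ 8 * Q ^ 11 := Nat.mul_le_mul_left 8 (Nat.pow_le_pow_left hQ8 11)
        rcases hcases with rfl | ⟨rfl, h8⟩ | ⟨h27, h6⟩
        · exact le_trans (by norm_num) h8'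
        · exact le_trans (by norm_num) h8'
        · have h7' : 6 * i * (6 * i) * (6 * i) * 27 ^ 8 ≤ Q ^ 11 := by
            calc 6 * i * (6 * i) * (6 * i) * 27 ^ 8 ≤ Q * Q * Q * Q ^ 8 :=
                  Nat.mul_le_mul (Nat.mul_le_mul (Nat.mul_le_mul h6 h6) h6) (Nat.pow_le_pow_left h27 8)
              _ = _ := by ring
          nlinarith
      calc (i * (Q - 1) * (7 * 7) * b) ^ 3 ≤ (i * Q * 49 * 9) ^ 3 :=
            Nat.pow_le_pow_left (Nat.mul_le_mul (Nat.mul_le_mul (Nat.mul_le_mul le_rfl hQ1) le_rfl) hb') _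
        _ = i * i * i * 85766121 * Q ^ 3 := by ring
        _ ≤ 8 * Q ^ 11 * Q ^ 3 := Nat.mul_le_mul_right _ h11
        _ = _ := by ring
    · have hb' := h9 rfl
      have h11 : i * i * i * 66430125 ≤ 8 * Q ^ 15 := by
        have h4' : 8 * 4 ^ 15 ≤ 8 * Q ^ 15 := Nat.mul_le_mul_left 8 (Nat.pow_le_pow_left hQ 15)
        rcases hcases with rfl | ⟨rfl, h8⟩ | ⟨h27, h6⟩
        · exact le_trans (by norm_num) h4'
        · exact le_trans (by norm_num) h4'
        · have h7' : 6 * i * (6 * i) * (6 * i) * 27 ^ 12 ≤ Q ^ 15 := by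
            calc 6 * i * (6 * i) * (6 * i) * 27 ^ 12 ≤ Q * Q * Q * Q ^ 12 :=
                  Nat.mul_le_mul (Nat.mul_le_mul (Nat.mul_le_mul h6 h6) h6) (Nat.pow_le_pow_left h27 12)
              _ = _ := by ring
          nlinarith
      calc (i * (Q - 1) * (9 * 9) * b) ^ 3 ≤ (i * Q * 81 * 5) ^ 3 :=
            Nat.pow_le_pow_left (Nat.mul_le_mul (Nat.mul_le_mul (Nat.mul_le_mul le_rfl hQ1) le_rfl) hb') _
        _ = i * i * i * 66430125 * Q ^ 3 := by ring
        _ ≤ 8 * Q ^ 15 * Q ^ 3 := Nat.mul_le_mul_right _ h11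
        _ = _ := by ring
  · have hbig : e ^ 18 ≤ 64 * Q ^ (2 * e - 6) := by
      rcases Nat.lt_or_ge e 27 with h27 | h27
      · have key : ∀ q : ℕ, q ≤ Q → e ^ 18 ≤ 64 * q ^ (2 * e - 6) → e ^ 18 ≤ 64 * Q ^ (2 * e - 6) :=
          fun q hq h => h.trans (Nat.mul_le_mul_left 64 (Nat.pow_le_pow_left hq _))
        obtain ⟨t, rfl⟩ := he
        have hpos : 0 < Q - 1 := by omega
        have ht : t ≤ 12 := by omega
        have ht5 : 5 ≤ t := by omega
        interval_cases t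
        · exact key 12 (by have := Nat.le_of_dvd hpos (hdiv 11 (by norm_num) (by norm_num)); omega) (by norm_num)
        · exact key 14 (by have := Nat.le_of_dvd hpos (hdiv 13 (by norm_num) (by norm_num)); omega) (by norm_num)
        · exact key 16 (by
            have := Nat.le_of_dvd hpos (Nat.Coprime.mul_dvd_of_dvd_of_dvd (by norm_num : Nat.Coprime 3 5)
              (hdiv 3 (by norm_num) (by norm_num)) (hdiv 5 (by norm_num) (by norm_num)))
            omega) (by norm_num)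
        · exact key 18 (by have := Nat.le_of_dvd hpos (hdiv 17 (by norm_num) (by norm_num)); omega) (by norm_num)
        · exact key 20 (by have := Nat.le_of_dvd hpos (hdiv 19 (by norm_num) (by norm_num)); omega) (by norm_num)
        · exact key 8 (by have := Nat.le_of_dvd hpos (hdiv 7 (by norm_num) (by norm_num)); omega) (by norm_num)
        · exact key 24 (by have := Nat.le_of_dvd hpos (hdiv 23 (by norm_num) (by norm_num)); omega) (by norm_num)
        · exact key 6 (by have := Nat.le_of_dvd hpos (hdiv 5 (by norm_num) (by norm_num)); omega) (by norm_num)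
      · exact (eighteen_pow_lt h27).le.trans (Nat.mul_le_mul_left 64 (Nat.pow_le_pow_left hQ _))
    have hi2 : 2 * i ≤ Q := (Nat.mul_le_mul_left 2 (Nat.le_of_dvd hd hid)).trans (two_mul_le_pow hp)
    have h1 : 8 * (i * (Q - 1) * (e * e) * b) ^ 3 ≤ 8 * (8 * Q ^ (e * 2)) := by
      calc 8 * (i * (Q - 1) * (e * e) * b) ^ 3 ≤ 8 * (i * Q * (e * e) * (e * e * (e * e))) ^ 3 :=
            Nat.mul_le_mul_left 8 (Nat.pow_le_pow_left
              (Nat.mul_le_mul (Nat.mul_le_mul (Nat.mul_le_mul le_rfl hQ1) le_rfl) hb) _)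
        _ = (2 * i) ^ 3 * Q ^ 3 * e ^ 18 := by ring
        _ ≤ Q ^ 3 * Q ^ 3 * (64 * Q ^ (2 * e - 6)) :=
            Nat.mul_le_mul (Nat.mul_le_mul (Nat.pow_le_pow_left hi2 3) le_rfl) hbig
        _ = _ := by
          rw [show e * 2 = 3 + 3 + (2 * e - 6) by omega, pow_add, pow_add]
          ring
    omega

end Cfsg.Agent.OddBaseTwo
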