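import Cfsg.Agent.Lib.OddBaseTwo.Small
import Cfsg.Agent.Lib.OddBaseTwo.Numeric
import Cfsg.Agent.S0548

/-! A primitive group of odd order has a set with trivial setwise stabiliser. -/

set_option autoImplicit false
set_option linter.style.haveILetI false

namespace Cfsg.Agent.OddBaseTwo

/-- The theorem for all modules of order below `N`. -/
def Below (N : ℕ) : Prop :=
  ∀ (A W : Type) [Group A] [Finite A] [AddCommGroup W] [Finite W] [DistribMulAction A W],
    Odd (Nat.card A) → CR A W → Nat.card W < N → Base A W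

/-- Subsets fixed by an element of odd order. -/
theorem fixed_subsets {P Ω : Type*} [Group P] [Finite P] [MulAction P Ω] [Finite Ω] (hP : Odd (Nat.card P)) (g : P) :
    ∃ c : ℕ, 3 * c ≤ Nat.card Ω + 2 * {x : Ω | g • x = x}.ncard ∧
      {S : Set Ω | ∀ x, g • x ∈ S ↔ x ∈ S}.ncard ≤ 2 ^ c := by
  classical
  let Z := Subgroup.zpowers g
  let O := Quotient (MulAction.orbitRel Z Ω)
  haveI : Fintype O := Fintype.ofFinite O
  refine ⟨Nat.card O, ?_, ?_⟩
  · have hodd : ∀ ω : O, Odd (Nat.card (MulAction.orbit Z ω.out)) := by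
      intro ω
      refine hP.of_dvd_nat ?_
      rw [Nat.card_coe_set_eq, ← MulAction.index_stabilizer]
      exact (Subgroup.index_dvd_card _).trans Z.card_subgroup_dvd_card
    have hsum : Nat.card Ω = ∑ ω : O, Nat.card (MulAction.orbit Z ω.out) := by
      rw [Nat.card_congr (MulAction.selfEquivSigmaOrbits Z Ω), Nat.card_sigma]
    let one : Finset O := Finset.univ.filter fun ω => Nat.card (MulAction.orbit Z ω.out) = 1
    have hone : one.card ≤ {x : Ω | g • x = x}.ncard := by
      rw [← Set.ncard_coe_finset]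
      refine Set.ncard_le_ncard_of_injOn (fun ω : O => ω.out) ?_ (fun a _ b _ h => Quotient.out_injective h)
        (Set.toFinite _)
      intro ω hω
      have h1 : Nat.card (MulAction.orbit Z ω.out) = 1 := (Finset.mem_filter.1 (Finset.mem_coe.1 hω)).2
      haveI := (Nat.card_eq_one_iff_unique.1 h1).1
      exact congrArg Subtype.val (Subsingleton.elim
        (⟨g • ω.out, ⟨g, Subgroup.mem_zpowers g⟩, rfl⟩ : MulAction.orbit Z ω.out)
        ⟨ω.out, MulAction.mem_orbit_self _⟩)
    have h3 : ∀ ω : O, 3 ≤ Nat.card (MulAction.orbit Z ω.out) + if ω ∈ one then 2 else 0 := by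
      intro ω
      obtain ⟨k, hk⟩ := hodd ω
      by_cases hω : ω ∈ one
      · rw [if_pos hω]; omega
      · rw [if_neg hω]
        have : Nat.card (MulAction.orbit Z ω.out) ≠ 1 := fun h => hω (Finset.mem_filter.2 ⟨Finset.mem_univ _, h⟩)
        omega
    have h4 : ∑ _ω : O, 3 ≤ ∑ ω : O, (Nat.card (MulAction.orbit Z ω.out) + if ω ∈ one then 2 else 0) :=
      Finset.sum_le_sum fun ω _ => h3 ω
    rw [Finset.sum_add_distrib, ← hsum, Finset.sum_const, Finset.card_univ, ← Nat.card_eq_fintype_card,
      smul_eq_mul, Finset.sum_ite_mem, Finset.univ_inter, Finset.sum_const, smul_eq_mul] at h4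
    omega
  · have h2 : Nat.card (Set O) = 2 ^ Nat.card O := by
      rw [Nat.card_eq_fintype_card, Fintype.card_set, ← Nat.card_eq_fintype_card]
    rw [← h2, ← Set.ncard_univ]
    refine Set.ncard_le_ncard_of_injOn (fun S : Set Ω => {ω : O | ω.out ∈ S}) (fun _ _ => Set.mem_univ _) ?_
      (Set.toFinite _)
    intro S hS T hT hST
    have hmove : ∀ U : Set Ω, (∀ x, g • x ∈ U ↔ x ∈ U) → ∀ z : Z, ∀ x, z • x ∈ U ↔ x ∈ U := by
      intro U hU z
      let K : Subgroup P :=
        { carrier := {p | ∀ x, p • x ∈ U ↔ x ∈ U}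
          one_mem' := fun x => by rw [one_smul]
          mul_mem' := fun {a b} ha hb x => by rw [mul_smul, ha, hb]
          inv_mem' := fun {a} ha x => by rw [← ha (a⁻¹ • x), smul_inv_smul] }
      exact (Subgroup.zpowers_le.2 (show g ∈ K from hU)) z.2
    ext x
    obtain ⟨z, hz⟩ : ∃ z : Z, z • x = (Quotient.mk (MulAction.orbitRel Z Ω) x).out :=
      MulAction.orbitRel_apply.1 (Quotient.mk_out (s := MulAction.orbitRel Z Ω) x)
    rw [← hmove S hS z x, ← hmove T hT z x, hz]
    exact Set.ext_iff.1 hST _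

/-- A primitive group of odd order has a set with trivial setwise stabiliser. -/
theorem exists_regular_set {P Ω : Type} [Group P] [Finite P] [MulAction P Ω] [Finite Ω] [FaithfulSMul P Ω]
    [Nontrivial Ω] (hP : Odd (Nat.card P)) (hprim : MulAction.IsPreprimitive P Ω) {N : ℕ} (hIH : Below N)
    (hN : Nat.card Ω < N) : ∃ S : Set Ω, ∀ g : P, (∀ x, g • x ∈ S ↔ x ∈ S) → g = 1 := by
  classical
  haveI : Group.IsSolvable P := OddOrderTheorem.solvable hP
  haveI : Group.IsSolvable (⊤ : Subgroup P) := inferInstance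
  have hP1 : (⊤ : Subgroup P) ≠ ⊥ := by
    intro e
    obtain ⟨x, y, hxy⟩ := exists_pair_ne Ω
    obtain ⟨g, hg⟩ := MulAction.exists_smul_eq P x y
    have : g = 1 := Subgroup.mem_bot.1 (e ▸ Subgroup.mem_top g)
    exact hxy (by rw [← hg, this, one_smul])
  obtain ⟨r, hr, M, hMn, hM0, -, hMc, hMr, hMexp, hmin⟩ := Solvable.exists_minimal_normal_pGroup hP1
  haveI := hMn
  haveI := Fact.mk hr
  obtain ⟨ω⟩ := (inferInstance : Nonempty Ω)
  have h548 := fun x : Ω => S0548.result hprim M hM0 hmin x
  set U := MulAction.stabilizer P ω with hU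
  have hMcomm : ∀ a ∈ M, ∀ b ∈ M, a * b = b * a := fun a ha b hb =>
    congrArg Subtype.val (hMc.is_comm.comm (⟨a, ha⟩ : M) ⟨b, hb⟩)
  have hbij : ∀ x : Ω, Function.Bijective fun m : M => (m : P) • x := by
    intro x
    refine ⟨fun m m' h => ?_, fun y => ?_⟩
    · have h1 : ((m'⁻¹ * m : M) : P) ∈ M ⊓ MulAction.stabilizer P x :=
        ⟨(m'⁻¹ * m).2, show ((m'⁻¹ * m : M) : P) • x = x by
          rw [Subgroup.coe_mul, Subgroup.coe_inv, mul_smul, show (m : P) • x = (m' : P) • x from h, inv_smul_smul]⟩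
      rw [(h548 x).1.disjoint.eq_bot, Subgroup.mem_bot] at h1
      exact (inv_mul_eq_one.1 (Subtype.ext h1 : m'⁻¹ * m = 1)).symm
    · obtain ⟨g, rfl⟩ := MulAction.exists_smul_eq P x y
      obtain ⟨⟨m, u⟩, hmu⟩ := (h548 x).1.2 g
      exact ⟨m, by simp only at hmu ⊢; rw [← hmu, mul_smul, MulAction.mem_stabilizer_iff.mp u.2]⟩
  set n := Nat.card Ω with hn
  have hMn' : Nat.card M = n := Nat.card_eq_of_bijective _ (hbij ω)
  obtain ⟨k, hk⟩ := IsPGroup.iff_card.1 hMr
  rw [hMn'] at hk
  have hnodd : Odd n := hMn' ▸ hP.of_dvd_nat M.card_subgroup_dvd_card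
  have hn2 : 2 ≤ n := Finite.one_lt_card
  have hk0 : k ≠ 0 := by rintro rfl; rw [pow_zero] at hk; omega
  have hr2 : r ≠ 2 := fun e => hnodd.not_two_dvd_nat (hk ▸ e ▸ dvd_pow_self r hk0)
  have hr3 : 3 ≤ r := by have := hr.two_le; omega
  -- the stabiliser acts on the normal subgroup
  letI : CommGroup M := { (inferInstance : Group M) with mul_comm := fun a b => Subtype.ext (hMcomm a a.2 b b.2) }
  letI actU : DistribMulAction U (Additive M) :=
    { smul := fun u x => Additive.ofMul ((MulAut.conjNormal (H := M) (u : P)) x.toMul)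
      one_smul := fun x => by
        show Additive.ofMul ((MulAut.conjNormal (H := M) ((1 : U) : P)) x.toMul) = x
        rw [OneMemClass.coe_one, map_one]; rfl
      mul_smul := fun u v x => by
        show Additive.ofMul ((MulAut.conjNormal (H := M) ((u * v : U) : P)) x.toMul) = _
        rw [Subgroup.coe_mul, map_mul]; rfl
      smul_zero := fun u => by
        show Additive.ofMul ((MulAut.conjNormal (H := M) (u : P)) 1) = 0
        rw [map_one]; rfl
      smul_add := fun u x y => by
        show Additive.ofMul ((MulAut.conjNormal (H := M) (u : P)) (x.toMul * y.toMul)) = _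
        rw [map_mul]; rfl }
  have hsmul : ∀ (u : U) (x : Additive M), (((u • x).toMul : M) : P) = (u : P) * (x.toMul : M) * (u : P)⁻¹ :=
    fun u x => MulAut.conjNormal_apply _ _
  have hfaith : ∀ u : U, (∀ x : Additive M, u • x = x) → u = 1 := by
    intro u hu
    have : (u : P) ∈ MulAction.stabilizer P ω ⊓ Subgroup.centralizer (M : Set P) := by
      refine ⟨u.2, Subgroup.mem_centralizer_iff.2 fun m hm => ?_⟩
      have := congrArg (fun x : Additive M => ((x.toMul : M) : P)) (hu (Additive.ofMul ⟨m, hm⟩))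
      simp only [hsmul] at this
      exact (mul_inv_eq_iff_eq_mul.1 this).symm
    rw [(h548 ω).2.1, Subgroup.mem_bot] at this
    exact Subtype.ext this
  haveI : FaithfulSMul U (Additive M) :=
    ⟨fun {u v} h => (inv_mul_eq_one.1 (hfaith (v⁻¹ * u) fun x => by rw [mul_smul, h, inv_smul_smul])).symm⟩
  have hirr : Irr U (Additive M) := by
    intro T hT
    let K : Subgroup P := (AddSubgroup.toSubgroup' T).map M.subtype
    have hKM : K ≤ M := Subgroup.map_subtype_le _
    have hnorm : MulAction.stabilizer P ω ≤ Subgroup.normalizer (K : Set P) := by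
      intro u hu
      refine Subgroup.mem_normalizer_fintype ?_
      rintro _ ⟨m, hm, rfl⟩
      exact ⟨((⟨u, hu⟩ : U) • Additive.ofMul m).toMul, hT ⟨u, hu⟩ _ hm, hsmul ⟨u, hu⟩ _⟩
    rcases (h548 ω).2.2 K hKM hnorm with hb | ht
    · left
      refine (AddSubgroup.eq_bot_iff_forall _).2 fun x hx => ?_
      have : ((x.toMul : M) : P) ∈ K := ⟨x.toMul, hx, rfl⟩
      rw [hb, Subgroup.mem_bot] at this
      exact Additive.toMul.injective (Subtype.ext this)
    · right
      refine eq_top_iff.2 fun x _ => ?_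
      have : ((x.toMul : M) : P) ∈ K := by rw [ht]; exact x.toMul.2
      obtain ⟨m, hm, he⟩ := this
      have he' : m = x.toMul := Subtype.ext he
      rw [he'] at hm
      exact hm
  have hUodd : Odd (Nat.card U) := hP.of_dvd_nat U.card_subgroup_dvd_card
  have hWn : Nat.card (Additive M) = n := (Nat.card_congr Additive.ofMul.symm).trans hMn'
  haveI : Nontrivial (Additive M) := Finite.one_lt_card_iff_nontrivial.1 (by omega)
  have hPcard : Nat.card P = n * Nat.card U := by rw [← hMn', (h548 ω).1.card_mul_card]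
  -- fixed points
  have hfix : ∀ g : P, g ≠ 1 →
      3 * {x : Ω | g • x = x}.ncard ≤ n ∧ (k = 1 → {x : Ω | g • x = x}.ncard ≤ 1) := by
    intro g hg
    rcases Set.eq_empty_or_nonempty {x : Ω | g • x = x} with he | ⟨y, hy⟩
    · rw [he, Set.ncard_empty]; exact ⟨Nat.zero_le _, fun _ => zero_le_one⟩
    have hy : g • y = y := hy
    let K : Subgroup P := M ⊓ Subgroup.centralizer {g}
    have hf : {x : Ω | g • x = x}.ncard = Nat.card K := by
      rw [← Nat.card_coe_set_eq]
      refine (Nat.card_eq_of_bijective (fun m : K => (⟨(m : P) • y, show g • (m : P) • y = (m : P) • y by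
        rw [← mul_smul, ← Subgroup.mem_centralizer_singleton_iff.1 m.2.2, mul_smul, hy]⟩ :
          {x : Ω | g • x = x})) ⟨fun m m' h => ?_, ?_⟩).symm
      · exact Subtype.ext (congrArg Subtype.val
          ((hbij y).1 (congrArg Subtype.val h : _) : (⟨m, m.2.1⟩ : M) = ⟨m', m'.2.1⟩) :)
      · rintro ⟨x, hx⟩
        have hx : g • x = x := hx
        obtain ⟨m, rfl⟩ := (hbij y).2 x
        have hc : (⟨g * m * g⁻¹, hMn.conj_mem m m.2 g⟩ : M) = m := (hbij y).1 (by
          show (g * (m : P) * g⁻¹) • y = (m : P) • y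
          rw [mul_smul, inv_smul_eq_iff.2 hy.symm, mul_smul]; exact hx)
        have hc' : g * m = m * g := mul_inv_eq_iff_eq_mul.1 (congrArg Subtype.val hc)
        exact ⟨⟨m, m.2, Subgroup.mem_centralizer_singleton_iff.2 hc'.symm⟩, rfl⟩
    have hne : K ≠ M := by
      intro e
      have : g ∈ MulAction.stabilizer P y ⊓ Subgroup.centralizer (M : Set P) :=
        ⟨hy, Subgroup.mem_centralizer_iff.2 fun m hm =>
          Subgroup.mem_centralizer_singleton_iff.1 ((e.symm ▸ hm : m ∈ K)).2⟩
      rw [(h548 y).2.1, Subgroup.mem_bot] at this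
      exact hg this
    have hKM : K ≤ M := inf_le_left
    obtain ⟨i, hik, hi⟩ := (Nat.dvd_prime_pow hr).1 (show Nat.card K ∣ r ^ k by
      rw [← hk, ← hMn']; exact Subgroup.card_dvd_of_le hKM)
    have hlt : i < k := by
      refine lt_of_le_of_ne hik fun e => hne ?_
      exact Subgroup.eq_of_le_of_card_ge hKM (by rw [hi, e, hMn', hk])
    rw [hf, hi, hk]
    refine ⟨?_, fun h1 => ?_⟩
    · calc 3 * r ^ i ≤ r * r ^ i := Nat.mul_le_mul_right _ hr3
        _ = r ^ (i + 1) := (pow_succ' r i).symm
        _ ≤ r ^ k := Nat.pow_le_pow_right hr.pos hlt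
    · rw [show i = 0 by omega, pow_zero]
  -- counting
  by_contra hc
  push Not at hc
  haveI := Fintype.ofFinite P
  haveI := Fintype.ofFinite Ω
  let T : P → Finset (Set Ω) := fun g => Finset.univ.filter fun S => ∀ x, g • x ∈ S ↔ x ∈ S
  have htwo : ∀ S : Set Ω, 2 ≤ ((Finset.univ.erase (1 : P)).filter fun g => S ∈ T g).card := by
    intro S
    obtain ⟨g, hg, hg1⟩ := hc S
    have hinv : g⁻¹ ≠ g := fun h => hg1 (eq_one_of_sq hP (by nth_rewrite 1 [← h]; exact inv_mul_cancel g))
    refine Finset.one_lt_card.2 ⟨g⁻¹, ?_, g, ?_, hinv⟩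
    · simp only [Finset.mem_filter, Finset.mem_erase, Finset.mem_univ, and_true, T, true_and]
      exact ⟨inv_ne_one.2 hg1, fun x => by rw [← hg (g⁻¹ • x), smul_inv_smul]⟩
    · simp [T, hg, hg1]
  have hsum : ∑ g ∈ Finset.univ.erase (1 : P), (T g).card =
      ∑ S : Set Ω, ((Finset.univ.erase (1 : P)).filter fun g => S ∈ T g).card := by
    simp only [Finset.card_filter]
    rw [Finset.sum_comm]
    refine Finset.sum_congr rfl fun g _ => ?_
    rw [← Finset.card_filter]
    congr 1
    ext S
    simp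
  -- the exponent
  set fmax := if k = 1 then 1 else n / 3 with hfmax
  set c := (n + 2 * fmax) / 3 with hcdef
  have hTle : ∀ g ∈ Finset.univ.erase (1 : P), (T g).card ≤ 2 ^ c := by
    intro g hg
    obtain ⟨h1, h2⟩ := hfix g (Finset.ne_of_mem_erase hg)
    obtain ⟨c', hc1, hc2⟩ := fixed_subsets hP (Ω := Ω) g
    have hf : {x : Ω | g • x = x}.ncard ≤ fmax := by
      rw [hfmax]
      split_ifs with hk1
      · exact h2 hk1
      · omega
    refine le_trans ?_ (Nat.pow_le_pow_right (by norm_num) (show c' ≤ c by omega))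
    refine le_trans (le_of_eq ?_) hc2
    rw [← Set.ncard_coe_finset]
    congr 1
    ext S
    simp [T]
  have hle : ∑ g ∈ Finset.univ.erase (1 : P), (T g).card ≤ (Nat.card P - 1) * 2 ^ c := by
    refine (Finset.sum_le_card_nsmul _ _ _ hTle).trans ?_
    rw [Finset.card_erase_of_mem (Finset.mem_univ _), Finset.card_univ, ← Nat.card_eq_fintype_card, smul_eq_mul]
  have hge : 2 * 2 ^ n ≤ ∑ S : Set Ω, ((Finset.univ.erase (1 : P)).filter fun g => S ∈ T g).card := by
    have := Finset.card_nsmul_le_sum (Finset.univ : Finset (Set Ω)) _ 2 fun S _ => htwo S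
    rw [Finset.card_univ, smul_eq_mul, Fintype.card_set, ← Nat.card_eq_fintype_card, ← hn] at this
    linarith
  have hcount : Nat.card P * 2 ^ c ≤ 2 * 2 ^ n := by
    rw [hPcard]
    have h2' : ¬ 2 ∣ Nat.card (Additive M) := by rw [hWn]; exact hnodd.not_two_dvd_nat
    by_cases hk1 : k = 1
    · refine count_prime (by obtain ⟨t, ht⟩ := hnodd; omega) ?_ (by rw [hcdef, hfmax, if_pos hk1]; omega)
      -- semiregular
      obtain ⟨x, hx⟩ := exists_ne (0 : Additive M)
      have hst : ∀ u : U, u • x = x → u = 1 := by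
        intro u hu
        refine hfaith u fun z => ?_
        let F : AddSubgroup (Additive M) :=
          { carrier := {w | u • w = w}
            zero_mem' := smul_zero u
            add_mem' := fun {p q} hp hq => by rw [Set.mem_ofPred_eq, smul_add, hp, hq]
            neg_mem' := fun {p} hp => by rw [Set.mem_ofPred_eq, smul_neg, hp] }
        haveI : Fact (Nat.card (Additive M)).Prime := ⟨by rw [hWn, hk, hk1, pow_one]; exact hr⟩
        rcases AddSubgroup.eq_bot_or_eq_top_of_prime_card F with hb | ht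
        · exact absurd (AddSubgroup.mem_bot.1 (hb ▸ (show x ∈ F from hu))) hx
        · exact (ht ▸ AddSubgroup.mem_top z : z ∈ F)
      have horb : (MulAction.orbit U x).ncard = Nat.card U := by
        rw [← Nat.card_coe_set_eq]
        refine (Nat.card_eq_of_bijective (fun u : U => (⟨u • x, u, rfl⟩ : MulAction.orbit U x)) ⟨fun u v h => ?_, ?_⟩).symm
        · exact (inv_mul_eq_one.1 (hst (v⁻¹ * u) (by rw [mul_smul, (show u • x = v • x from congrArg Subtype.val h), inv_smul_smul]))).symm
        · rintro ⟨_, u, rfl⟩; exact ⟨u, rfl⟩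
      have := two_mul_orbit_le hUodd hx h2'
      rw [horb, hWn] at this
      exact this
    · have h25 : 25 ≤ n := by
        by_contra hlt
        have hk2 : 2 ≤ k := by omega
        have h33 : r ^ 2 ≤ r ^ k := Nat.pow_le_pow_right hr.pos hk2
        have hr3' : r = 3 := by
          by_contra hr'
          have h4 : r ≠ 4 := fun e => by subst e; norm_num at hr
          have : 5 ^ 2 ≤ r ^ 2 := Nat.pow_le_pow_left (by omega) 2
          omega
        subst hr3'
        have hk2' : k = 2 := by
          by_contra hk3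
          have : 3 ^ 3 ≤ 3 ^ k := Nat.pow_le_pow_right (by norm_num) (by omega)
          omega
        have h9 : Nat.card (Additive M) = 9 := by rw [hWn, hk, hk2']; norm_num
        obtain ⟨x, hx⟩ := exists_ne (0 : Additive M)
        have hx3 : 3 • x = 0 := by
          apply Additive.toMul.injective
          apply Subtype.ext
          rw [toMul_nsmul, SubmonoidClass.coe_pow]
          exact hMexp _ x.toMul.2
        have hinv : Inv U (AddSubgroup.zmultiples x) := fun u w hw => by
          rw [trivial_of_nine hUodd hirr.cr h9 u w]; exact hw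
        haveI : Fact (Nat.Prime 3) := ⟨Nat.prime_three⟩
        rcases hirr _ hinv with hb | ht
        · exact hx (AddSubgroup.zmultiples_eq_bot.1 hb)
        · have := Nat.card_zmultiples x
          rw [ht, AddSubgroup.card_top, h9, addOrderOf_eq_prime hx3 hx] at this
          omega
      refine count_composite h25 ?_ (by rw [hcdef, hfmax, if_neg hk1]; omega)
      have := four_mul_card_le hUodd h2' (hIH U (Additive M) hUodd hirr.cr (hWn ▸ hN))
      rwa [hWn] at this
  have h1 : 1 ≤ Nat.card P := Nat.card_pos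
  have h3 : (Nat.card P - 1) * 2 ^ c + 2 ^ c = Nat.card P * 2 ^ c := by
    rw [← Nat.succ_mul, Nat.succ_eq_add_one, Nat.sub_add_cancel h1]
  have h4 : 0 < 2 ^ c := by positivity
  omega

end Cfsg.Agent.OddBaseTwo
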