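import Cfsg.Agent.Lib.OddBaseTwo.Fixed
import Cfsg.Agent.Lib.OddBaseTwo.Chief
import Cfsg.Agent.Lib.Huppert.Main
import Mathlib.Algebra.Group.TransferInstance

/-! Two vectors with trivial common stabiliser, for completely reducible groups of odd order. -/

set_option autoImplicit false
set_option linter.style.haveILetI false

namespace Cfsg.Agent.OddBaseTwo

open Subgroup

variable {A : Type} [Group A] [Finite A] {V : Type} [AddCommGroup V] [Finite V] [DistribMulAction A V]

/-- The primitive case. -/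
theorem base_of_primitive [FaithfulSMul A V] [Nontrivial V] (p : ℕ) [hp : Fact p.Prime] [Module (ZMod p) V]
    (hA : Odd (Nat.card A)) (hirr : Irr A V) (hprim : Prim A V p) (hIH : Below (Nat.card V)) : Base A V := by
  classical
  rcases subsingleton_or_nontrivial A with h | h
  · exact ⟨0, 0, fun a _ _ x => by rw [Subsingleton.elim a 1, one_smul]⟩
  haveI : Group.IsSolvable A := OddOrderTheorem.solvable hA
  obtain ⟨U, -, hUmax⟩ := Finite.exists_le_maximal (α := Subgroup A)
    (p := fun U => U.Normal ∧ ∀ x ∈ U, ∀ y ∈ U, x * y = y * x) (a := ⊥)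
    ⟨inferInstance, fun x hx y hy => by rw [mem_bot.1 hx, mem_bot.1 hy]⟩
  obtain ⟨hUn, hU⟩ := hUmax.prop
  haveI := hUn
  have hmax : ∀ B : Subgroup A, B.Normal → (∀ a ∈ B, ∀ b ∈ B, a * b = b * a) → U ≤ B → B = U :=
    fun B hB hBc hUB => le_antisymm (hUmax.2 ⟨hB, hBc⟩ hUB) hUB
  have hU1 : U ≠ ⊥ := by
    intro e
    obtain ⟨N, hNn, hN0, -, hNN⟩ := Huppert.exists_abelian_above (⊥ : Subgroup A) ⊤ bot_lt_top
    have := hmax N hNn (fun a ha b hb => commutatorElement_eq_one_iff_mul_comm.1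
      (mem_bot.1 (hNN (commutator_mem_commutator ha hb)))) (e ▸ bot_le)
    exact hN0.ne (by rw [this, e])
  obtain ⟨d, m, hd, hm, hV, hUdvd, hidx, hcyc, hfpf, hbound⟩ := field_data p hirr hprim U hU
  haveI := hcyc
  set C := centralizer (U : Set A) with hC
  by_cases hCU : C = U
  · -- semilinear
    obtain ⟨u, hu⟩ := IsCyclic.exists_generator (α := U)
    obtain ⟨v, hv⟩ := exists_ne (0 : V)
    refine ⟨v, (u : A) • v, fun a h1 h2 x => ?_⟩
    have hconj : a * u * a⁻¹ = u := by
      have hfix : ((u : A)⁻¹ * (a * u * a⁻¹)) • v = v := by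
        rw [mul_smul, mul_smul, inv_smul_eq_iff.2 h1.symm, mul_smul, h2, inv_smul_smul]
      by_contra hne
      refine hv (hfpf _ (U.mul_mem (U.inv_mem u.2) (hUn.conj_mem _ u.2 a)) ?_ v hfix)
      exact fun e => hne (inv_mul_eq_one.1 e).symm
    have haC : a ∈ C := by
      rw [hC, mem_centralizer_iff]
      intro w hw
      obtain ⟨i, hi⟩ := mem_zpowers_iff.1 (hu ⟨w, hw⟩)
      have hwi : w = (u : A) ^ i := by rw [← Subgroup.coe_zpow, hi]
      have hc : Commute a (u : A) := mul_inv_eq_iff_eq_mul.1 hconj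
      rw [hwi]
      exact (hc.zpow_right i).eq.symm
    rw [hCU] at haC
    have ha1 : a = 1 := by
      by_contra hne
      exact hv (hfpf a haC hne v h1)
    rw [ha1, one_smul]
  obtain ⟨M, hMn, hP, hMC, hnd, hfaith, hK, hUM⟩ := Huppert.exists_class_two U hU hmax
  haveI := hMn
  have hUM' := hUM hCU
  obtain ⟨e, he⟩ : ∃ e, U.relIndex M = e * e := by
    obtain ⟨k, hk⟩ := Huppert.exists_sq hP
    have h : M ⊓ centralizer (M : Set A) = U := le_antisymm
      (fun u hu => hnd u hu.1 fun v hv => (mem_centralizer_iff.1 hu.2 v hv).symm)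
      (le_inf hP.le fun a ha => mem_centralizer_iff.2 fun v hv => (hP.central a ha v hv).symm)
    exact ⟨k, by rw [← h]; exact hk⟩
  have hMcard : Nat.card M = Nat.card U * (e * e) := by
    rw [← he, ← Nat.card_congr (subgroupOfEquivOfLe hP.le).toEquiv]
    exact ((U.subgroupOf M).card_mul_index).symm
  have he1 : e ≠ 1 := fun h1 => hUM'.not_ge (relIndex_eq_one.1 (by rw [he, h1, mul_one]))
  have heodd : Odd e := by
    have : Odd (Nat.card M) := hA.of_dvd_nat M.card_subgroup_dvd_card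
    rw [hMcard] at this
    exact (Nat.odd_mul.1 (Nat.odd_mul.1 this).2).1
  have hem : e ≤ m := Nat.mul_self_le_mul_self_iff.1 (he ▸ hbound M hMC hP.comm hnd)
  have hUlt : 1 < Nat.card U := (one_lt_card_iff_ne_bot U).2 hU1
  have hUodd : Odd (Nat.card U) := hA.of_dvd_nat U.card_subgroup_dvd_card
  have hpd : 1 < p ^ d := Nat.one_lt_pow hd.ne' hp.out.one_lt
  have hUle : Nat.card U ≤ p ^ d - 1 := Nat.le_of_dvd (by omega) hUdvd
  have hQ : 4 ≤ p ^ d := by obtain ⟨t, ht⟩ := hUodd; omega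
  have hlt : e * e < Nat.card V := by
    rw [hV]
    refine (Nat.mul_le_mul hem hem).trans_lt (lt_of_lt_of_le ?_ (Nat.pow_le_pow_left hQ m))
    rw [show (4 : ℕ) = 2 * 2 from rfl, mul_pow]
    exact Nat.mul_lt_mul'' Nat.lt_two_pow_self Nat.lt_two_pow_self
  obtain ⟨K, b, hKmem, hKb, hb, h3, h5, h7, h9⟩ := section_bound hA U M hP hmax hnd he hlt hIH
  have hAle : Nat.card A ≤ C.index * (p ^ d - 1) * (e * e) * b := by
    have hMK : M ≤ K := fun g hg => (hKmem g).2 fun v hv => hP.comm g hg v hv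
    have hKC : C ⊓ K = M := by
      refine le_antisymm (fun g hg => hK g hg.1 ((hKmem g).1 hg.2)) (le_inf hMC hMK)
    have h1 : M.relIndex K ≤ C.index := by
      rw [← hKC, inf_relIndex_right]
      exact Nat.le_of_dvd (Nat.pos_of_ne_zero FiniteIndex.index_ne_zero) (relIndex_dvd_index_of_normal C K)
    have h2 : Nat.card K = Nat.card M * M.relIndex K := by
      rw [← Nat.card_congr (subgroupOfEquivOfLe hMK).toEquiv]
      exact ((M.subgroupOf K).card_mul_index).symm
    calc Nat.card A = K.index * (Nat.card U * (e * e) * M.relIndex K) := by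
          rw [← hMcard, ← h2, index_mul_card]
      _ ≤ b * ((p ^ d - 1) * (e * e) * C.index) :=
          Nat.mul_le_mul hKb (Nat.mul_le_mul (Nat.mul_le_mul_right _ hUle) h1)
      _ = _ := by ring
  have hdiv : ∀ r : ℕ, r.Prime → r ∣ e → r ∣ p ^ d - 1 := fun r hr hre =>
    (Huppert.dvd_card_of_dvd_index hP hnd hr (he ▸ hre.mul_left e)).trans hUdvd
  have hcube : Nat.card A ^ 3 ≤ 8 * Nat.card V ^ 2 := by
    rw [hV]
    exact (Nat.pow_le_pow_left hAle 3).trans (count_quasi hp.out hd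
      (hA.of_dvd_nat (index_dvd_card C)) hidx heodd he1 hem hdiv hQ hb h3 h5 h7 h9)
  -- counting
  obtain ⟨g₀, hg₀⟩ : ∃ g₀ : {a : A // a ≠ 1}, ∀ g : {a : A // a ≠ 1},
      Nat.card (fixSub (V := V) (g : A)) * Nat.card (fixSub (V := V) (g : A)) ≤
        Nat.card (fixSub (V := V) (g₀ : A)) * Nat.card (fixSub (V := V) (g₀ : A)) := by
    haveI : Nonempty {a : A // a ≠ 1} := let ⟨a, ha⟩ := exists_ne (1 : A); ⟨⟨a, ha⟩⟩
    exact Finite.exists_max fun g : {a : A // a ≠ 1} =>
      Nat.card (fixSub (V := V) (g : A)) * Nat.card (fixSub (V := V) (g : A))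
  refine base_of_count (V := V) hA (K := Nat.card (fixSub (V := V) (g₀ : A)) * Nat.card (fixSub (V := V) (g₀ : A)))
    (fun a ha => by rw [ncard_fix]; exact hg₀ ⟨a, ha⟩) ?_ (Nat.mul_pos Nat.card_pos Nat.card_pos)
  have hfix := fix_bound (V := V) hA U M hP.le hMn hfpf hP.central hP.comm hnd (fun g hg =>
    hfaith g (mem_centralizer_iff.2 fun a ha => (hg a (hP.le ha)).symm) hg) (g₀ : A) g₀.2
  rw [← Nat.pow_le_pow_iff_left (by norm_num : (3 : ℕ) ≠ 0), mul_pow]
  calc _ ≤ 8 * Nat.card V ^ 2 * Nat.card V ^ 4 := Nat.mul_le_mul hcube hfix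
    _ = _ := by ring

/-- An irreducible module is elementary, and both cases apply. -/
theorem base_of_irr [FaithfulSMul A V] [Nontrivial V] (hA : Odd (Nat.card A)) (hirr : Irr A V)
    (hIH : Below (Nat.card V)) : Base A V := by
  obtain ⟨p, hp, hpV⟩ := Nat.exists_prime_and_dvd (Finite.one_lt_card (α := V)).ne'
  haveI := Fact.mk hp
  have hexp : ∀ v : V, p • v = 0 := by
    let T : AddSubgroup V := (nsmulAddMonoidHom p : V →+ V).ker
    have hT : Inv A T := fun a v (hv : p • v = 0) => show p • (a • v) = 0 by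
      rw [show p • (a • v) = a • (p • v) from ((DistribSMul.toAddMonoidHom V a).map_nsmul p v).symm, hv, smul_zero]
    obtain ⟨x, hx⟩ := exists_prime_addOrderOf_dvd_card' (G := V) p hpV
    rcases hirr T hT with hb | ht
    · exfalso
      have : x ∈ T := by show p • x = 0; rw [← hx]; exact addOrderOf_nsmul_eq_zero x
      rw [hb, AddSubgroup.mem_bot] at this
      rw [this, addOrderOf_zero] at hx
      exact hp.one_lt.ne hx
    · exact fun v => (ht ▸ AddSubgroup.mem_top v : v ∈ T)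
  letI : Module (ZMod p) V := AddCommGroup.zmodModule hexp
  by_cases hprim : Prim A V p
  · exact base_of_primitive p hA hirr hprim hIH
  · exact base_of_imprimitive p hA hirr hIH hprim

theorem below : ∀ N : ℕ, Below N := by
  intro N
  induction N with
  | zero => intro A W _ _ _ _ _ _ _ h; exact absurd h (Nat.not_lt_zero _)
  | succ N ih =>
    intro A W _ _ _ _ _ hA hcr hlt
    rcases Nat.lt_or_ge (Nat.card W) N with h | h
    · exact ih A W hA hcr h
    obtain rfl : N = Nat.card W := by omega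
    rcases subsingleton_or_nontrivial W with hW | hW
    · exact ⟨0, 0, fun a _ _ x => Subsingleton.elim _ _⟩
    by_cases hirr : Irr A W
    · exact Img.base_iff.1 (base_of_irr (A := Img A W) (Img.odd hA) (Img.irr_iff.2 hirr) ih)
    simp only [Irr, not_forall, not_or] at hirr
    obtain ⟨U, hU, hU0, hU1⟩ := hirr
    obtain ⟨T, hT, hd, hs⟩ := hcr U hU
    have hT0 : T ≠ ⊥ := fun e => hU1 (by rw [← hs, e, sup_bot_eq])
    have hT1 : T ≠ ⊤ := fun e => hU0 (by rw [← hd, e, inf_top_eq])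
    have hlt' : ∀ S : AddSubgroup W, S ≠ ⊤ → Nat.card S < Nat.card W := fun S hS =>
      lt_of_le_of_ne (Nat.le_of_dvd Nat.card_pos S.card_addSubgroup_dvd_card)
        fun e => hS (AddSubgroup.eq_top_of_card_eq S e)
    obtain ⟨v1, w1, h1⟩ : ∃ v w : U, ∀ a : A, a • (v : W) = v → a • (w : W) = w → ∀ x : U, a • (x : W) = x := by
      letI := subAction hU
      obtain ⟨v, w, h⟩ := ih A U hA (hcr.sub hU) (hlt' U hU1)
      exact ⟨v, w, fun a e1 e2 x => congrArg Subtype.val (h a (Subtype.ext e1) (Subtype.ext e2) x)⟩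
    obtain ⟨v2, w2, h2⟩ : ∃ v w : T, ∀ a : A, a • (v : W) = v → a • (w : W) = w → ∀ x : T, a • (x : W) = x := by
      letI := subAction hT
      obtain ⟨v, w, h⟩ := ih A T hA (hcr.sub hT) (hlt' T hT1)
      exact ⟨v, w, fun a e1 e2 x => congrArg Subtype.val (h a (Subtype.ext e1) (Subtype.ext e2) x)⟩
    refine ⟨(v1 : W) + v2, (w1 : W) + w2, fun a e1 e2 x => ?_⟩
    have hsplit : ∀ (u : U) (t : T), a • ((u : W) + t) = u + t → a • (u : W) = u ∧ a • (t : W) = t := by
      intro u t he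
      rw [smul_add] at he
      have hm : a • (u : W) - u ∈ U ⊓ T := by
        refine AddSubgroup.mem_inf.2 ⟨sub_mem (hU a u u.2) u.2, ?_⟩
        rw [show a • (u : W) - u = (t : W) - a • (t : W) by
          rw [sub_eq_sub_iff_add_eq_add]; exact he.trans (add_comm _ _)]
        exact sub_mem t.2 (hT a t t.2)
      rw [hd, AddSubgroup.mem_bot, sub_eq_zero] at hm
      exact ⟨hm, by rw [hm, add_right_inj] at he; exact he⟩
    obtain ⟨a1, a2⟩ := hsplit v1 v2 e1
    obtain ⟨b1, b2⟩ := hsplit w1 w2 e2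
    obtain ⟨u, hu, t, ht, rfl⟩ := AddSubgroup.mem_sup.1 (hs ▸ AddSubgroup.mem_top x : x ∈ U ⊔ T)
    rw [smul_add, h1 a a1 b1 ⟨u, hu⟩, h2 a a2 b2 ⟨t, ht⟩]

/-- A carrier of a given size, without structure. -/
def Pts (n : ℕ) : Type := Fin n

instance (n : ℕ) : Finite (Pts n) := inferInstanceAs (Finite (Fin n))

/-- Espuelas: two vectors with trivial common stabiliser. -/
theorem exists_two_vectors {A V : Type*} [Group A] [Finite A] [AddCommGroup V] [Finite V] [DistribMulAction A V]
    [FaithfulSMul A V] (hA : Odd (Nat.card A)) (hcr : CR A V) :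
    ∃ v w : V, ∀ a : A, a • v = v → a • w = w → a = 1 := by
  let ev : V ≃ Pts (Nat.card V) := Finite.equivFin V
  let ea : A ≃ Pts (Nat.card A) := Finite.equivFin A
  letI : AddCommGroup (Pts (Nat.card V)) := ev.symm.addCommGroup
  letI : Group (Pts (Nat.card A)) := ea.symm.group
  let φ : V ≃+ Pts (Nat.card V) := (ev.symm.addEquiv).symm
  let ψ : A ≃* Pts (Nat.card A) := (ea.symm.mulEquiv).symm
  letI : DistribMulAction (Pts (Nat.card A)) (Pts (Nat.card V)) :=
    { smul := fun a x => φ (ψ.symm a • φ.symm x)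
      one_smul := fun x => show φ (ψ.symm 1 • φ.symm x) = x by
        rw [map_one, one_smul, AddEquiv.apply_symm_apply]
      mul_smul := fun a b x => show φ (ψ.symm (a * b) • φ.symm x) =
          φ (ψ.symm a • φ.symm (φ (ψ.symm b • φ.symm x))) by
        rw [map_mul, mul_smul, AddEquiv.symm_apply_apply]
      smul_zero := fun a => show φ (ψ.symm a • φ.symm 0) = 0 by rw [map_zero, smul_zero, map_zero]
      smul_add := fun a x y => show φ (ψ.symm a • φ.symm (x + y)) = _ by rw [map_add, smul_add, map_add]; rfl }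
  have hsmul : ∀ (a : A) (x : V), ψ a • φ x = φ (a • x) := fun a x => by
    show φ (ψ.symm (ψ a) • φ.symm (φ x)) = _
    rw [MulEquiv.symm_apply_apply, AddEquiv.symm_apply_apply]
  have hcr' : CR (Pts (Nat.card A)) (Pts (Nat.card V)) := by
    intro U hU
    obtain ⟨W, hW, hd, hs⟩ := hcr (U.comap φ.toAddMonoidHom) fun a v hv => by
      show φ (a • v) ∈ U
      rw [← hsmul]; exact hU _ _ hv
    refine ⟨W.comap φ.symm.toAddMonoidHom, fun a x hx => ?_, ?_, ?_⟩
    · show φ.symm (φ (ψ.symm a • φ.symm x)) ∈ W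
      rw [AddEquiv.symm_apply_apply]; exact hW _ _ hx
    · refine (AddSubgroup.eq_bot_iff_forall _).2 fun x hx => ?_
      have : φ.symm x ∈ U.comap φ.toAddMonoidHom ⊓ W := ⟨show φ (φ.symm x) ∈ U by simpa using hx.1, hx.2⟩
      rw [hd, AddSubgroup.mem_bot] at this
      simpa using congrArg φ this
    · refine eq_top_iff.2 fun x _ => ?_
      obtain ⟨u, hu, w, hw, he⟩ := AddSubgroup.mem_sup.1
        (hs ▸ AddSubgroup.mem_top (φ.symm x) : φ.symm x ∈ U.comap φ.toAddMonoidHom ⊔ W)
      refine AddSubgroup.mem_sup.2 ⟨φ u, hu, φ w, show φ.symm (φ w) ∈ W by simpa using hw, ?_⟩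
      rw [← map_add, he, AddEquiv.apply_symm_apply]
  obtain ⟨v, w, h⟩ := below (Nat.card (Pts (Nat.card V)) + 1) _ _
    (show Odd (Nat.card (Pts (Nat.card A))) by rwa [← Nat.card_congr ψ.toEquiv]) hcr' (Nat.lt_succ_self _)
  refine ⟨φ.symm v, φ.symm w, fun a h1 h2 => eq_one_of_smul_eq (V := V) fun x => φ.injective ?_⟩
  rw [← hsmul]
  exact h _ (show φ (ψ.symm (ψ a) • φ.symm v) = v by
      rw [MulEquiv.symm_apply_apply, h1, AddEquiv.apply_symm_apply])
    (show φ (ψ.symm (ψ a) • φ.symm w) = w by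
      rw [MulEquiv.symm_apply_apply, h2, AddEquiv.apply_symm_apply]) (φ x)

end Cfsg.Agent.OddBaseTwo
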