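import Cfsg.Agent.Lib.OddBaseTwo.Field

/-! Fixed vectors in primitive groups of odd order. -/

set_option autoImplicit false
set_option linter.style.haveILetI false

namespace Cfsg.Agent.OddBaseTwo

variable {A : Type} [Group A] [Finite A] {V : Type} [AddCommGroup V] [Finite V] [DistribMulAction A V]

/-- The fixed vectors of an element. -/
def fixSub (a : A) : AddSubgroup V where
  carrier := {v | a • v = v}
  zero_mem' := smul_zero a
  add_mem' := fun {u v} hu hv => by rw [Set.mem_ofPred_eq, smul_add, hu, hv]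
  neg_mem' := fun {u} hu => by rw [Set.mem_ofPred_eq, smul_neg, hu]

theorem mem_fixSub {a : A} {v : V} : v ∈ fixSub a ↔ a • v = v := Iff.rfl

theorem ncard_fix (a : A) : {v : V | a • v = v}.ncard = Nat.card (fixSub (V := V) a) :=
  (Nat.card_coe_set_eq _).symm

/-- An element with a fixed-point-free commutator of order at least three has at most a third of the dimension. -/
theorem cube_fix_le {g v a : A} (h : g * v = a * (v * g)) (hag : a * g = g * a) (hav : a * v = v * a)
    (h1 : ∀ x : V, a • x = x → x = 0) (h2 : ∀ x : V, (a * a) • x = x → x = 0) :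
    Nat.card (fixSub (V := V) g) * Nat.card (fixSub (V := V) g) * Nat.card (fixSub (V := V) g) ≤ Nat.card V := by
  rw [← Nat.card_prod, ← Nat.card_prod]
  let F := fixSub (V := V) g
  let f : (F × F) × F →+ V :=
    { toFun := fun q => (q.1.1 : V) + v • (q.1.2 : V) + v • v • (q.2 : V)
      map_zero' := by simp
      map_add' := fun q q' => by
        simp only [Prod.fst_add, Prod.snd_add, AddSubgroup.coe_add, smul_add]; abel }
  refine Nat.card_le_card_of_injective f ((injective_iff_map_eq_zero f).2 ?_)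
  rintro ⟨⟨⟨x, hx⟩, ⟨y, hy⟩⟩, ⟨z, hz⟩⟩ h0
  have hx : g • x = x := hx
  have hy : g • y = y := hy
  have hz : g • z = z := hz
  have h0 : x + v • y + v • v • z = 0 := h0
  have hY : g • v • y = a • v • y := by rw [← mul_smul, h, mul_smul, mul_smul, hy]
  have hZ : g • v • v • z = a • a • v • v • z := by
    rw [← mul_smul, h, mul_smul, mul_smul, ← mul_smul g v z, h, mul_smul, mul_smul, hz, ← mul_smul v a, ← hav,
      mul_smul]
  have hga : ∀ w : V, g • a • w = a • g • w := fun w => by rw [← mul_smul, ← hag, mul_smul]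
  set Y := v • y with hYdef
  set Z := v • v • z with hZdef
  -- `P + R = 0` and applying `g` once more
  set P := a • Y - Y with hP
  set R := a • a • Z - Z with hR
  have hPR : P + R = 0 := by
    have := congrArg (g • ·) h0
    simp only [smul_add, smul_zero, hx, hY, hZ] at this
    calc P + R = (x + a • Y + a • a • Z) - (x + Y + Z) := by rw [hP, hR]; abel
      _ = 0 := by rw [this, h0, sub_zero]
  have hgP : g • P = a • P := by rw [hP, smul_sub, smul_sub, hga, hY]
  have hgR : g • R = a • a • R := by rw [hR, smul_sub, smul_sub, smul_sub, hga, hga, hZ]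
  have h3 : a • P + a • a • R = 0 := by rw [← hgP, ← hgR, ← smul_add, hPR, smul_zero]
  have h4 : a • P + a • R = 0 := by rw [← smul_add, hPR, smul_zero]
  have hR0 : R = 0 := h1 R (smul_left_cancel a (add_left_cancel (h3.trans h4.symm)))
  have hZ0 : Z = 0 := h2 Z (by rw [mul_smul]; exact sub_eq_zero.1 hR0)
  have hP0 : P = 0 := by rw [hR0, add_zero] at hPR; exact hPR
  have hY0 : Y = 0 := h1 Y (sub_eq_zero.1 hP0)
  have hx0 : x = 0 := by rw [hY0, hZ0, add_zero, add_zero] at h0; exact h0
  have hy0 : y = 0 := (smul_eq_zero_iff_eq v).1 hY0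
  have hz0 : z = 0 := (smul_eq_zero_iff_eq v).1 ((smul_eq_zero_iff_eq v).1 hZ0)
  subst hx0 hy0 hz0
  rfl

/-- The square of the fixed points is bounded by the fixed points of a commutator. -/
theorem sq_fix_le (g y : A) :
    Nat.card (fixSub (V := V) g) * Nat.card (fixSub (V := V) g) ≤
      Nat.card V * Nat.card (fixSub (V := V) (g * y * g⁻¹ * y⁻¹)) := by
  let F := fixSub (V := V) g
  let f : F × F →+ V :=
    { toFun := fun q => (q.1 : V) + y • (q.2 : V)
      map_zero' := by simp
      map_add' := fun q q' => by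
        simp only [Prod.fst_add, Prod.snd_add, AddSubgroup.coe_add, smul_add]; abel }
  rw [← Nat.card_prod]
  have h1 : Nat.card (F × F) = f.ker.index * Nat.card f.ker := (AddSubgroup.index_mul_card _).symm
  refine h1.trans_le (Nat.mul_le_mul ?_ ?_)
  · rw [AddSubgroup.index_ker]
    exact Nat.le_of_dvd Nat.card_pos f.range.card_addSubgroup_dvd_card
  · refine Nat.card_le_card_of_injective (fun q : f.ker => (⟨y • (q.1.2 : V), ?_⟩ : fixSub (V := V) (g * y * g⁻¹ * y⁻¹))) ?_
    · obtain ⟨⟨⟨x, hx⟩, ⟨x', hx'⟩⟩, hq⟩ := q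
      have hx : g • x = x := hx
      have hx' : g • x' = x' := hx'
      have he : x + y • x' = 0 := hq
      show (g * y * g⁻¹ * y⁻¹) • y • x' = y • x'
      rw [mul_smul, inv_smul_smul, mul_smul, inv_smul_eq_iff.2 hx'.symm, mul_smul, eq_neg_of_add_eq_zero_right he,
        smul_neg, hx]
    · rintro ⟨⟨⟨x, hx⟩, ⟨x', hx'⟩⟩, hq⟩ ⟨⟨⟨w, hw⟩, ⟨w', hw'⟩⟩, hq'⟩ he
      have he : y • x' = y • w' := congrArg Subtype.val he
      have e1 : x + y • x' = 0 := hq
      have e2 : w + y • w' = 0 := hq'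
      obtain rfl : x' = w' := smul_left_cancel y he
      obtain rfl : x = w := add_right_cancel (e1.trans e2.symm)
      rfl

/-- Fixed points of the non-trivial elements of a primitive group. -/
theorem fix_bound [FaithfulSMul A V] (hA : Odd (Nat.card A)) (U M : Subgroup A) (hUM : U ≤ M) (hMn : M.Normal)
    (hfpf : ∀ u ∈ U, u ≠ 1 → ∀ v : V, u • v = v → v = 0)
    (hcent : ∀ a ∈ U, ∀ v ∈ M, a * v = v * a) (hcomm : ∀ u ∈ M, ∀ v ∈ M, u * v * u⁻¹ * v⁻¹ ∈ U)
    (hnd : ∀ u ∈ M, (∀ v ∈ M, u * v = v * u) → u ∈ U)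
    (hCM : ∀ g : A, (∀ v ∈ M, g * v = v * g) → g ∈ U)
    (g : A) (hg : g ≠ 1) :
    (Nat.card (fixSub (V := V) g) * Nat.card (fixSub (V := V) g)) ^ 3 ≤ Nat.card V ^ 4 := by
  have hV : 1 ≤ Nat.card V := Nat.card_pos
  -- non-trivial elements of `M`
  have hin : ∀ u ∈ M, u ≠ 1 → Nat.card (fixSub (V := V) u) ^ 3 ≤ Nat.card V := by
    intro u hu hu1
    by_cases huU : u ∈ U
    · have hbot : fixSub (V := V) u = ⊥ := (AddSubgroup.eq_bot_iff_forall _).2 (hfpf u huU hu1)
      rw [hbot, AddSubgroup.card_bot, one_pow]; exact hV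
    · obtain ⟨v, hv, hne⟩ : ∃ v ∈ M, u * v ≠ v * u := by
        by_contra hc
        push Not at hc
        exact huU (hnd u hu hc)
      set a := u * v * u⁻¹ * v⁻¹ with ha
      have haU : a ∈ U := hcomm u hu v hv
      have ha1 : a ≠ 1 := fun e => hne (mul_inv_eq_iff_eq_mul.1 (mul_inv_eq_one.1 e))
      have ha2 : a * a ≠ 1 := fun e => ha1 (eq_one_of_sq hA e)
      have := cube_fix_le (V := V) (g := u) (v := v) (a := a) (by rw [ha]; group) (hcent a haU u hu) (hcent a haU v hv)
        (hfpf a haU ha1) (hfpf _ (U.mul_mem haU haU) ha2)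
      calc _ = _ := by ring
        _ ≤ _ := this
  by_cases hgM : g ∈ M
  · calc (Nat.card (fixSub (V := V) g) * Nat.card (fixSub (V := V) g)) ^ 3
        = Nat.card (fixSub (V := V) g) ^ 3 * Nat.card (fixSub (V := V) g) ^ 3 := by ring
      _ ≤ Nat.card V * Nat.card V := Nat.mul_le_mul (hin g hgM hg) (hin g hgM hg)
      _ ≤ Nat.card V ^ 4 := by rw [← pow_two]; exact Nat.pow_le_pow_right hV (by norm_num)
  · obtain ⟨y, hy, hne⟩ : ∃ y ∈ M, g * y ≠ y * g := by
      by_contra hc
      push Not at hc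
      exact hgM (hUM (hCM g hc))
    set f := g * y * g⁻¹ * y⁻¹ with hf
    have hfM : f ∈ M := M.mul_mem (hMn.conj_mem y hy g) (M.inv_mem hy)
    have hf1 : f ≠ 1 := fun e => hne (mul_inv_eq_iff_eq_mul.1 (mul_inv_eq_one.1 e))
    calc (Nat.card (fixSub (V := V) g) * Nat.card (fixSub (V := V) g)) ^ 3
        ≤ (Nat.card V * Nat.card (fixSub (V := V) f)) ^ 3 := Nat.pow_le_pow_left (sq_fix_le g y) 3
      _ = Nat.card V ^ 3 * Nat.card (fixSub (V := V) f) ^ 3 := by ring
      _ ≤ Nat.card V ^ 3 * Nat.card V := Nat.mul_le_mul_left _ (hin f hfM hf1)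
      _ = _ := by ring

end Cfsg.Agent.OddBaseTwo
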