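import Cfsg.Agent.Lib.OddBaseTwo.Subsets
import Mathlib.Algebra.Module.ZMod
import Mathlib.GroupTheory.GroupAction.Blocks

/-! Systems of imprimitivity given by orthogonal idempotents, and the imprimitive case. -/

set_option autoImplicit false
set_option linter.style.haveILetI false

namespace Cfsg.Agent.OddBaseTwo

open scoped Pointwise

variable {A : Type} [Group A] [Finite A] {V : Type} [AddCommGroup V] [Finite V] [DistribMulAction A V]
  (p : ℕ) [Module (ZMod p) V]

/-- The action by `ZMod p`-linear maps. -/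
def lin : A →* Module.End (ZMod p) V where
  toFun a := (DistribSMul.toAddMonoidHom V a).toZModLinearMap p
  map_one' := LinearMap.ext fun v => one_smul A v
  map_mul' a b := LinearMap.ext fun v => mul_smul a b v

theorem lin_apply (a : A) (v : V) : lin p a v = a • v := rfl

/-- A system of imprimitivity, as a set of orthogonal idempotents. -/
structure IsSys (O : Finset (Module.End (ZMod p) V)) : Prop where
  ne : ∀ e ∈ O, e ≠ 0
  idem : ∀ e ∈ O, e * e = e
  orth : ∀ e ∈ O, ∀ f ∈ O, e ≠ f → e * f = 0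
  sum : ∑ e ∈ O, e = 1
  stable : ∀ a : A, ∀ e ∈ O, lin p a * e * lin p a⁻¹ ∈ O

/-- Primitivity: there is no system of at least two parts. -/
def Prim (A V : Type) [Group A] [Finite A] [AddCommGroup V] [Finite V] [DistribMulAction A V]
    (p : ℕ) [Module (ZMod p) V] : Prop :=
  ∀ O : Finset (Module.End (ZMod p) V), IsSys (A := A) p O → O.card ≤ 1

theorem lin_mul_inv (a : A) : lin (V := V) p a * lin p a⁻¹ = 1 := by rw [← map_mul, mul_inv_cancel, map_one]

theorem lin_inv_mul (a : A) : lin (V := V) p a⁻¹ * lin p a = 1 := by rw [← map_mul, inv_mul_cancel, map_one]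

/-- An idempotent commuting with an irreducible group is trivial. -/
theorem idem_eq_one (hirr : Irr A V) {e : Module.End (ZMod p) V} (he : e * e = e) (he0 : e ≠ 0)
    (hc : ∀ a : A, lin p a * e = e * lin p a) : e = 1 := by
  have hinv : Inv A e.toAddMonoidHom.range := by
    rintro a _ ⟨v, rfl⟩
    exact ⟨a • v, (LinearMap.congr_fun (hc a) v).symm⟩
  rcases hirr _ hinv with hb | ht
  · exact absurd (LinearMap.ext fun v => AddSubgroup.mem_bot.1 (hb ▸ (show e v ∈ e.toAddMonoidHom.range from ⟨v, rfl⟩))) he0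
  · refine LinearMap.ext fun v => ?_
    obtain ⟨w, hw⟩ : v ∈ e.toAddMonoidHom.range := ht ▸ AddSubgroup.mem_top v
    have hw : e w = v := hw
    rw [Module.End.one_apply, ← hw, ← Module.End.mul_apply, he]

/-- Conjugation of a system. -/
@[reducible] def sysAction {O : Finset (Module.End (ZMod p) V)} (hO : IsSys (A := A) p O) : MulAction A O where
  smul a e := ⟨lin (V := V) p a * (e : Module.End (ZMod p) V) * lin p a⁻¹, hO.stable a e e.2⟩
  one_smul e := Subtype.ext (show lin (V := V) p (1 : A) * (e : Module.End (ZMod p) V) * lin p (1 : A)⁻¹ = (e : Module.End (ZMod p) V) by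
    rw [inv_one, map_one, one_mul, mul_one])
  mul_smul a b e := Subtype.ext (show lin (V := V) p (a * b) * (e : Module.End (ZMod p) V) * lin p (a * b)⁻¹ =
      lin p a * (lin p b * (e : Module.End (ZMod p) V) * lin p b⁻¹) * lin p a⁻¹ by
    rw [mul_inv_rev, map_mul, map_mul]; simp only [mul_assoc])

/-- The imprimitive case. -/
theorem base_of_imprimitive (hA : Odd (Nat.card A)) (hirr : Irr A V) (hIH : Below (Nat.card V))
    (hnp : ¬ Prim A V p) : Base A V := by
  classical
  haveI : Finite (Module.End (ZMod p) V) := Finite.of_injective _ DFunLike.coe_injective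
  simp only [Prim, not_forall, not_le] at hnp
  obtain ⟨O, ⟨hO, hO2⟩, hmin⟩ := exists_minimalFor_of_wellFoundedLT
    (fun O : Finset (Module.End (ZMod p) V) => IsSys (A := A) p O ∧ 1 < O.card) Finset.card
    (by obtain ⟨O, hO, h2⟩ := hnp; exact ⟨O, hO, h2⟩)
  letI : MulAction A O := sysAction p hO
  have hsmulO : ∀ (a : A) (e : O), ((a • e : O) : Module.End (ZMod p) V) = lin p a * (e : Module.End (ZMod p) V) * lin p a⁻¹ :=
    fun _ _ => rfl
  have happ : ∀ (a : A) (e : O) (v : V),
      ((a • e : O) : Module.End (ZMod p) V) (a • v) = a • ((e : Module.End (ZMod p) V) v) := by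
    intro a e v
    rw [hsmulO, Module.End.mul_apply, Module.End.mul_apply, lin_apply, lin_apply, inv_smul_smul]
  have horth : ∀ e f : O, e ≠ f → (e : Module.End (ZMod p) V) * f = 0 :=
    fun e f h => hO.orth _ e.2 _ f.2 fun h' => h (Subtype.ext h')
  have hsel : ∀ (e : O) (T : Finset O),
      (e : Module.End (ZMod p) V) * ∑ x ∈ T, (x : Module.End (ZMod p) V) = if e ∈ T then (e : Module.End (ZMod p) V) else 0 := by
    intro e T
    rw [Finset.mul_sum]
    by_cases he : e ∈ T
    · rw [if_pos he, Finset.sum_eq_single e (fun x _ hx => horth e x (Ne.symm hx)) (fun h => absurd he h), hO.idem _ e.2]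
    · rw [if_neg he, Finset.sum_eq_zero fun x hx => horth e x fun h => he (h ▸ hx)]
  have hsum : ∑ x : O, (x : Module.End (ZMod p) V) = 1 := by
    rw [Finset.sum_coe_sort O fun x => x]; exact hO.sum
  have hsum_inj : ∀ T₁ T₂ : Finset O, ∑ x ∈ T₁, (x : Module.End (ZMod p) V) = ∑ x ∈ T₂, (x : Module.End (ZMod p) V) → T₁ = T₂ := by
    intro T₁ T₂ h
    ext e
    have h' := congrArg ((e : Module.End (ZMod p) V) * ·) h
    simp only [hsel] at h'
    have := hO.ne _ e.2
    split_ifs at h' with h1 h2 h2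
    · simp [h1, h2]
    · exact absurd h' this
    · exact absurd h'.symm this
    · simp [h1, h2]
  have hmul_sum : ∀ T₁ T₂ : Finset O, Disjoint T₁ T₂ →
      (∑ x ∈ T₁, (x : Module.End (ZMod p) V)) * ∑ x ∈ T₂, (x : Module.End (ZMod p) V) = 0 := by
    intro T₁ T₂ h
    rw [Finset.sum_mul]
    exact Finset.sum_eq_zero fun e he => by rw [hsel, if_neg (Finset.disjoint_left.1 h he)]
  have hconj_sum : ∀ (a : A) (T : Finset O), lin p a * (∑ x ∈ T, (x : Module.End (ZMod p) V)) * lin p a⁻¹ =
      ∑ x ∈ T.image (fun z : O => a • z), (x : Module.End (ZMod p) V) := by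
    intro a T
    rw [Finset.mul_sum, Finset.sum_mul, Finset.sum_image fun x _ y _ h => smul_left_cancel a h]
    rfl
  have hOne : Nonempty O := by
    obtain ⟨e, he⟩ := Finset.card_pos.1 (by omega : 0 < O.card)
    exact ⟨⟨e, he⟩⟩
  obtain ⟨x₀⟩ := hOne
  -- transitive
  have htrans : ∀ x y : O, ∃ a : A, a • x = y := by
    intro x y
    let T : Finset O := Finset.univ.filter fun z => ∃ a : A, a • x = z
    have hx : x ∈ T := Finset.mem_filter.2 ⟨Finset.mem_univ _, 1, one_smul A x⟩
    have himg : ∀ a : A, T.image (a • ·) = T := by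
      intro a
      refine Finset.eq_of_subset_of_card_le ?_ (Finset.card_image_of_injective _ (MulAction.injective a)).ge
      intro z hz
      obtain ⟨w, hw, rfl⟩ := Finset.mem_image.1 hz
      obtain ⟨b, rfl⟩ := (Finset.mem_filter.1 hw).2
      exact Finset.mem_filter.2 ⟨Finset.mem_univ _, a * b, mul_smul a b x⟩
    set s := ∑ z ∈ T, (z : Module.End (ZMod p) V) with hs
    have hidem : s * s = s := by
      rw [hs, Finset.sum_mul]
      exact Finset.sum_congr rfl fun e he => by rw [hsel, if_pos he]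
    have hs0 : s ≠ 0 := fun h => by
      have := hsum_inj T ∅ (by rw [← hs, h, Finset.sum_empty])
      simp [this] at hx
    have hcomm : ∀ a : A, lin p a * s = s * lin p a := by
      intro a
      have h := hconj_sum a T
      rw [himg, ← hs] at h
      conv_rhs => rw [← h]
      rw [mul_assoc _ (lin p a⁻¹), lin_inv_mul, mul_one]
    have h1 := idem_eq_one p hirr hidem hs0 hcomm
    have hT : T = Finset.univ := hsum_inj _ _ (by rw [← hs, h1, hsum])
    exact (Finset.mem_filter.1 (hT ▸ Finset.mem_univ y : y ∈ T)).2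
  -- the group on the parts
  let φ := MulAction.toPermHom A O
  let P := φ.range
  have hPodd : Odd (Nat.card P) := hA.of_dvd_nat (Subgroup.card_range_dvd φ)
  have hPsmul : ∀ (a : A) (e : O), ((⟨φ a, a, rfl⟩ : P) • e) = a • e := fun _ _ => rfl
  haveI : Nontrivial O := Fintype.one_lt_card_iff_nontrivial.1 (by rw [Fintype.card_coe]; exact hO2)
  have hprim : MulAction.IsPreprimitive P O := by
    haveI : MulAction.IsPretransitive P O := ⟨fun x y => by
      obtain ⟨a, ha⟩ := htrans x y
      exact ⟨⟨φ a, a, rfl⟩, ha⟩⟩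
    refine ⟨fun {B} hB => ?_⟩
    by_contra hBt
    simp only [MulAction.IsTrivialBlock, not_or, Set.not_subsingleton_iff] at hBt
    obtain ⟨hB2, hBu⟩ := hBt
    let blk : A → Finset O := fun a => B.toFinset.image (a • ·)
    let 𝓑 : Finset (Finset O) := Finset.univ.filter fun T => ∃ a, blk a = T
    have hblk : ∀ a : A, ((blk a : Finset O) : Set O) = (⟨φ a, a, rfl⟩ : P) • B := by
      intro a
      simp only [blk, Finset.coe_image, Set.coe_toFinset]
      rfl
    have hdisj : ∀ T₁ ∈ 𝓑, ∀ T₂ ∈ 𝓑, T₁ ≠ T₂ → Disjoint T₁ T₂ := by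
      intro T₁ h₁ T₂ h₂ hne
      obtain ⟨a, rfl⟩ := (Finset.mem_filter.1 h₁).2
      obtain ⟨b, rfl⟩ := (Finset.mem_filter.1 h₂).2
      rw [← Finset.disjoint_coe, hblk, hblk]
      exact hB (fun h => hne (Finset.coe_injective (by rw [hblk, hblk, h])))
    have hcardblk : ∀ T ∈ 𝓑, T.card = B.toFinset.card := by
      intro T hT
      obtain ⟨a, rfl⟩ := (Finset.mem_filter.1 hT).2
      exact Finset.card_image_of_injective _ (MulAction.injective a)
    have hB2' : 2 ≤ B.toFinset.card := Finset.one_lt_card_iff_nontrivial.2 (by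
      obtain ⟨x, hx, y, hy, hxy⟩ := hB2
      exact ⟨x, Set.mem_toFinset.2 hx, y, Set.mem_toFinset.2 hy, hxy⟩)
    have hcover : 𝓑.biUnion id = Finset.univ := by
      refine Finset.eq_univ_iff_forall.2 fun y => ?_
      obtain ⟨x, hx⟩ := hB2.nonempty
      obtain ⟨a, rfl⟩ := htrans x y
      exact Finset.mem_biUnion.2 ⟨blk a, Finset.mem_filter.2 ⟨Finset.mem_univ _, a, rfl⟩,
        Finset.mem_image.2 ⟨x, Set.mem_toFinset.2 hx, rfl⟩⟩
    have htot : O.card = 𝓑.card * B.toFinset.card := by
      rw [← Fintype.card_coe, ← Finset.card_univ, ← hcover, Finset.card_biUnion (t := id) (fun T₁ h₁ T₂ h₂ h => hdisj T₁ h₁ T₂ h₂ h),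
        ← Finset.sum_const_nat (m := B.toFinset.card) hcardblk]
      rfl
    have h𝓑2 : 1 < 𝓑.card := by
      by_contra hle
      refine hBu (Set.eq_univ_iff_forall.2 fun y => ?_)
      have hy : y ∈ 𝓑.biUnion id := hcover ▸ Finset.mem_univ y
      obtain ⟨T, hT, hyT⟩ := Finset.mem_biUnion.1 hy
      have h1 : T = blk 1 :=
        Finset.card_le_one.1 (by omega) T hT _ (Finset.mem_filter.2 ⟨Finset.mem_univ _, 1, rfl⟩)
      rw [h1] at hyT
      obtain ⟨x, hx, hxy⟩ := Finset.mem_image.1 (show y ∈ blk 1 from hyT)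
      rw [one_smul] at hxy
      exact hxy ▸ Set.mem_toFinset.1 hx
    let bs : Finset O → Module.End (ZMod p) V := fun T => ∑ x ∈ T, (x : Module.End (ZMod p) V)
    have hcard : (𝓑.image bs).card = 𝓑.card := Finset.card_image_of_injective _ fun T₁ T₂ h => hsum_inj _ _ h
    have hsys : IsSys (A := A) p (𝓑.image bs) := by
      refine ⟨?_, ?_, ?_, ?_, ?_⟩
      · intro e he
        obtain ⟨T, hT, rfl⟩ := Finset.mem_image.1 he
        intro h0
        have h1 := hsum_inj T ∅ (h0.trans Finset.sum_empty.symm)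
        have h2 := hcardblk T hT
        rw [h1, Finset.card_empty] at h2
        omega
      · intro e he
        obtain ⟨T, -, rfl⟩ := Finset.mem_image.1 he
        simp only [bs, Finset.sum_mul]
        exact Finset.sum_congr rfl fun e he => by rw [hsel, if_pos he]
      · intro e he f hf hne
        obtain ⟨T₁, h₁, rfl⟩ := Finset.mem_image.1 he
        obtain ⟨T₂, h₂, rfl⟩ := Finset.mem_image.1 hf
        exact hmul_sum _ _ (hdisj T₁ h₁ T₂ h₂ fun h => hne (by rw [h]))
      · rw [Finset.sum_image fun T₁ _ T₂ _ h => hsum_inj _ _ h, ← hsum, ← hcover,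
          Finset.sum_biUnion (t := id) fun T₁ h₁ T₂ h₂ h => hdisj T₁ h₁ T₂ h₂ h]
        rfl
      · intro a e he
        obtain ⟨T, hT, rfl⟩ := Finset.mem_image.1 he
        obtain ⟨b, rfl⟩ := (Finset.mem_filter.1 hT).2
        refine Finset.mem_image.2 ⟨blk (a * b), Finset.mem_filter.2 ⟨Finset.mem_univ _, a * b, rfl⟩, ?_⟩
        simp only [bs]
        rw [hconj_sum]
        congr 1
        simp only [blk, Finset.image_image]
        congr 1
        funext x
        exact mul_smul a b x
    have := hmin ⟨hsys, hcard ▸ h𝓑2⟩ (by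
      show (𝓑.image bs).card ≤ O.card
      rw [hcard, htot]; exact Nat.le_mul_of_pos_right _ (by omega))
    rw [hcard, htot] at this
    have : 𝓑.card * 2 ≤ 𝓑.card * B.toFinset.card := Nat.mul_le_mul_left _ hB2'
    omega
  -- fewer parts than vectors
  have hnlt : Nat.card O < Nat.card V := by
    have hv : ∀ e : O, ∃ v : V, (e : Module.End (ZMod p) V) v = v ∧ v ≠ 0 := by
      intro e
      by_contra hc
      push Not at hc
      refine hO.ne _ e.2 (LinearMap.ext fun v => hc _ ?_)
      rw [← Module.End.mul_apply, hO.idem _ e.2]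
    choose w hw hw0 using hv
    have hinj : Function.Injective w := by
      intro e f h
      by_contra hne
      have h' := LinearMap.congr_fun (horth e f hne) (w f)
      rw [Module.End.mul_apply, hw, ← h, hw] at h'
      exact hw0 e h'
    haveI := Fintype.ofFinite V
    rw [Nat.card_eq_fintype_card, Nat.card_eq_fintype_card]
    exact Fintype.card_lt_of_injective_of_notMem w hinj (b := 0) fun ⟨e, he⟩ => hw0 e he
  obtain ⟨S, hS⟩ := exists_regular_set (P := P) hPodd hprim hIH hnlt
  -- the first part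
  let U : AddSubgroup V := (x₀ : Module.End (ZMod p) V).toAddMonoidHom.range
  let A₀ := MulAction.stabilizer A x₀
  have hUmem : ∀ u : V, u ∈ U ↔ (x₀ : Module.End (ZMod p) V) u = u :=
    fun u => ⟨fun ⟨w, hw⟩ => by
      have hw : (x₀ : Module.End (ZMod p) V) w = u := hw
      rw [← hw, ← Module.End.mul_apply, hO.idem _ x₀.2], fun h => ⟨u, h⟩⟩
  have hU : Inv A₀ U := by
    intro a u hu
    rw [hUmem] at hu ⊢
    have h := happ (a : A) x₀ u
    rw [show (a : A) • x₀ = x₀ from a.2, hu] at h
    exact h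
  have hUlt : Nat.card U < Nat.card V := by
    refine lt_of_le_of_ne (Nat.le_of_dvd Nat.card_pos U.card_addSubgroup_dvd_card) fun h => ?_
    obtain ⟨f, hf⟩ := exists_ne x₀
    have htop : U = ⊤ := AddSubgroup.eq_top_of_card_eq U h
    have h1 : (x₀ : Module.End (ZMod p) V) = 1 :=
      LinearMap.ext fun v => (hUmem v).1 (htop ▸ AddSubgroup.mem_top v)
    have := horth f x₀ hf
    rw [h1, mul_one] at this
    exact hO.ne _ f.2 this
  letI := subAction hU
  have hUirr : Irr A₀ U := by
    intro W hW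
    refine or_iff_not_imp_left.2 fun hW0 => ?_
    obtain ⟨w, hwW, hw0⟩ := W.bot_or_exists_ne_zero.resolve_left hW0
    let T : AddSubgroup V :=
      { carrier := {v | ∀ a : A, ∃ w' ∈ W, (x₀ : Module.End (ZMod p) V) (a • v) = (w' : V)}
        zero_mem' := fun a => ⟨0, W.zero_mem, by rw [smul_zero, map_zero]; rfl⟩
        add_mem' := fun {v v'} hv hv' a => by
          obtain ⟨w1, h1, e1⟩ := hv a
          obtain ⟨w2, h2, e2⟩ := hv' a
          exact ⟨w1 + w2, W.add_mem h1 h2, by rw [smul_add, map_add, e1, e2]; rfl⟩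
        neg_mem' := fun {v} hv a => by
          obtain ⟨w1, h1, e1⟩ := hv a
          exact ⟨-w1, W.neg_mem h1, by rw [smul_neg, map_neg, e1]; rfl⟩ }
    have hT : Inv A T := fun b v hv a => by
      obtain ⟨w', hw', e⟩ := hv (a * b)
      exact ⟨w', hw', by rw [← mul_smul]; exact e⟩
    have hwT : (w : V) ∈ T := by
      intro a
      by_cases ha : a • x₀ = x₀
      · refine ⟨(⟨a, ha⟩ : A₀) • w, hW ⟨a, ha⟩ w hwW, ?_⟩
        exact (hUmem _).1 (hU ⟨a, ha⟩ (w : V) w.2)
      · refine ⟨0, W.zero_mem, ?_⟩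
        have h := happ a x₀ (w : V)
        rw [(hUmem _).1 w.2] at h
        rw [← h, ← Module.End.mul_apply, horth x₀ (a • x₀) (Ne.symm ha)]
        rfl
    rcases hirr T hT with hb | ht
    · exact absurd (Subtype.ext (AddSubgroup.mem_bot.1 (hb ▸ hwT))) hw0
    · refine eq_top_iff.2 fun u _ => ?_
      obtain ⟨w', hw', e⟩ := (ht ▸ AddSubgroup.mem_top (u : V) : (u : V) ∈ T) 1
      rw [one_smul, (hUmem _).1 u.2] at e
      rwa [Subtype.ext e]
  haveI : Nontrivial U := by
    by_contra hc
    refine hO.ne _ x₀.2 (LinearMap.ext fun v => ?_)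
    haveI := not_nontrivial_iff_subsingleton.1 hc
    exact congrArg Subtype.val
      (Subsingleton.elim (⟨(x₀ : Module.End (ZMod p) V) v, ⟨v, rfl⟩⟩ : U) 0)
  have hA₀ : Odd (Nat.card A₀) := hA.of_dvd_nat A₀.card_subgroup_dvd_card
  obtain ⟨u₁, u₂, u₁', u₂', hreg, hreg', hne⟩ :=
    exists_two_pairs hA₀ (hIH A₀ U hA₀ hUirr.cr hUlt)
  choose t ht using fun e : O => htrans x₀ e
  -- the two vectors
  let q₁ : O → U := fun e => if e ∈ S then u₁ else u₁'
  let q₂ : O → U := fun e => if e ∈ S then u₂ else u₂'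
  have hcomp : ∀ (q : O → U) (e : O),
      (e : Module.End (ZMod p) V) (∑ f, t f • (q f : V)) = t e • (q e : V) := by
    intro q e
    have hself : ∀ f : O, (f : Module.End (ZMod p) V) (t f • (q f : V)) = t f • (q f : V) := by
      intro f
      have h := happ (t f) x₀ (q f : V)
      rw [ht f, (hUmem _).1 (q f).2] at h
      exact h
    rw [map_sum, Finset.sum_eq_single e ?_ (fun h => absurd (Finset.mem_univ e) h), hself]
    intro f _ hf
    rw [← hself f, ← Module.End.mul_apply, horth e f (Ne.symm hf)]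
    rfl
  refine ⟨∑ f, t f • (q₁ f : V), ∑ f, t f • (q₂ f : V), fun a h1 h2 => ?_⟩
  have hmove : ∀ (q : O → U), a • ∑ f, t f • (q f : V) = ∑ f, t f • (q f : V) → ∀ e : O,
      t (a • e) • (q (a • e) : V) = a • t e • (q e : V) := by
    intro q hq e
    have h := happ a e (∑ f, t f • (q f : V))
    rwa [hq, hcomp, hcomp] at h
  have hg : ∀ e : O, (t (a • e))⁻¹ * a * t e ∈ A₀ := fun e => by
    show ((t (a • e))⁻¹ * a * t e) • x₀ = x₀
    rw [mul_smul, mul_smul, ht, inv_smul_eq_iff, ht]
  have hgq : ∀ (q : O → U), a • ∑ f, t f • (q f : V) = ∑ f, t f • (q f : V) → ∀ e : O,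
      (⟨_, hg e⟩ : A₀) • q e = q (a • e) := by
    intro q hq e
    refine Subtype.ext ?_
    show ((t (a • e))⁻¹ * a * t e) • (q e : V) = _
    rw [mul_smul, mul_smul, ← hmove q hq e, inv_smul_smul]
  have hstab : ∀ e : O, a • e ∈ S ↔ e ∈ S := by
    intro e
    have e1 := hgq q₁ h1 e
    have e2 := hgq q₂ h2 e
    simp only [q₁, q₂] at e1 e2
    by_cases he : e ∈ S <;> by_cases he' : a • e ∈ S <;>
      simp only [he, he', if_true, if_false, iff_self, iff_false, iff_true, not_true_eq_false] at e1 e2 ⊢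
    · exact (hne _).1 ⟨e1, e2⟩
    · exact (hne _).2 ⟨e1, e2⟩
  have hπ : (⟨φ a, a, rfl⟩ : P) = 1 := hS _ fun e => by rw [hPsmul]; exact hstab e
  have hfix : ∀ e : O, a • e = e := fun e => by rw [← hPsmul, hπ, one_smul]
  intro v
  have hv : v = ∑ e : O, (e : Module.End (ZMod p) V) v := by
    conv_lhs => rw [← Module.End.one_apply (R := ZMod p) v, ← hsum]
    exact LinearMap.sum_apply _ _ _
  rw [hv, Finset.smul_sum]
  refine Finset.sum_congr rfl fun e _ => ?_
  have e1 := (hgq q₁ h1 e).trans (congrArg q₁ (hfix e))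
  have e2 := (hgq q₂ h2 e).trans (congrArg q₂ (hfix e))
  have hall : ∀ u : U, (⟨_, hg e⟩ : A₀) • u = u := by
    simp only [q₁, q₂] at e1 e2
    by_cases he : e ∈ S
    · simp only [he, if_true] at e1 e2; exact hreg _ e1 e2
    · simp only [he, if_false] at e1 e2; exact hreg' _ e1 e2
  have hmem : (t e)⁻¹ • (e : Module.End (ZMod p) V) v ∈ U := by
    rw [hUmem]
    have h := happ (t e)⁻¹ e ((e : Module.End (ZMod p) V) v)
    rw [show (t e)⁻¹ • e = x₀ from inv_smul_eq_iff.2 (ht e).symm, ← Module.End.mul_apply (e : Module.End (ZMod p) V),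
      hO.idem _ e.2] at h
    exact h
  have hh : ((t (a • e))⁻¹ * a * t e) • (t e)⁻¹ • (e : Module.End (ZMod p) V) v =
      (t e)⁻¹ • (e : Module.End (ZMod p) V) v := congrArg Subtype.val (hall ⟨_, hmem⟩)
  rw [hfix e, mul_smul, mul_smul, smul_inv_smul] at hh
  exact smul_left_cancel _ hh

end Cfsg.Agent.OddBaseTwo
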