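import Cfsg.Agent.Lib.OddBaseTwo.Basic
import Cfsg.Agent.Lib.Solvable.Basic
import Cfsg.Agent.Lib.OddOrderTheorem.Basic
import Mathlib.GroupTheory.Sylow
import Mathlib.GroupTheory.SpecificGroups.Cyclic

/-! Completely reducible groups of odd order on the modules of order 9, 25, 49 and 81. -/

set_option autoImplicit false
set_option linter.style.haveILetI false

namespace Cfsg.Agent.OddBaseTwo

variable {A W : Type*} [Group A] [AddCommGroup W] [DistribMulAction A W]

/-- The action on an invariant subgroup. -/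
@[reducible] def subAction {U : AddSubgroup W} (hU : Inv A U) : DistribMulAction A U where
  smul a u := ⟨a • (u : W), hU a u u.2⟩
  one_smul u := Subtype.ext (one_smul A (u : W))
  mul_smul a b u := Subtype.ext (mul_smul a b (u : W))
  smul_zero a := Subtype.ext (smul_zero a)
  smul_add a u v := Subtype.ext (smul_add a (u : W) (v : W))

theorem subAction_coe {U : AddSubgroup W} (hU : Inv A U) (a : A) (u : U) :
    ((letI := subAction hU; a • u : U) : W) = a • (u : W) := rfl

theorem CR.sub (h : CR A W) {U : AddSubgroup W} (hU : Inv A U) : letI := subAction hU; CR A U := by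
  letI := subAction hU
  intro S hS
  have hS' : Inv A (S.map U.subtype) := by
    rintro a _ ⟨s, hs, rfl⟩
    exact ⟨a • s, hS a s hs, rfl⟩
  obtain ⟨T, hT, hd, hs⟩ := h _ hS'
  refine ⟨T.addSubgroupOf U, fun a t ht => ?_, ?_, ?_⟩
  · exact hT a (t : W) ht
  · refine eq_bot_iff.2 fun t ht => AddSubgroup.mem_bot.2 (Subtype.ext ?_)
    have : (t : W) ∈ S.map U.subtype ⊓ T := ⟨⟨t, ht.1, rfl⟩, ht.2⟩
    rw [hd] at this
    exact this
  · refine eq_top_iff.2 fun u _ => ?_
    have hu : (u : W) ∈ S.map U.subtype ⊔ T := hs ▸ AddSubgroup.mem_top _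
    rw [AddSubgroup.mem_sup] at hu
    obtain ⟨_, ⟨s, hsS, rfl⟩, t, ht, he⟩ := hu
    have htU : t ∈ U := by
      rw [show t = (u : W) - (s : W) from eq_sub_of_add_eq' he]
      exact sub_mem u.2 s.2
    exact AddSubgroup.mem_sup.2 ⟨s, hsS, ⟨t, htU⟩, ht, Subtype.ext he⟩

/-- A completely reducible module of prime power order has prime exponent. -/
theorem exponent_of_cr [Finite W] (h : CR A W) {p k : ℕ} [hp : Fact p.Prime] (hW : Nat.card W = p ^ k) (w : W) :
    p • w = 0 := by
  let R : AddSubgroup W := (nsmulAddMonoidHom p : W →+ W).range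
  have hR : Inv A R := by
    rintro a _ ⟨x, rfl⟩
    exact ⟨a • x, ((DistribSMul.toAddMonoidHom W a).map_nsmul p x).symm⟩
  obtain ⟨K, -, hd, hs⟩ := h R hR
  -- multiplication by `p` maps `R` onto itself
  have honto : ∀ r ∈ R, ∃ r' ∈ R, p • r' = r := by
    rintro _ ⟨x, rfl⟩
    have hx : x ∈ R ⊔ K := hs ▸ AddSubgroup.mem_top _
    obtain ⟨r', hr', t, ht, rfl⟩ := AddSubgroup.mem_sup.1 hx
    refine ⟨r', hr', ?_⟩
    show p • r' = p • (r' + t)
    have : p • t ∈ R ⊓ K := ⟨⟨t, rfl⟩, K.nsmul_mem ht p⟩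
    rw [hd, AddSubgroup.mem_bot] at this
    rw [nsmul_add, this, add_zero]
  by_contra hne
  have hnt : (⟨p • w, w, rfl⟩ : R) ≠ 0 := fun h0 => hne (congrArg Subtype.val h0)
  haveI : Nontrivial R := ⟨⟨_, _, hnt⟩⟩
  obtain ⟨j, -, hj⟩ := (Nat.dvd_prime_pow hp.out).1 (hW ▸ R.card_addSubgroup_dvd_card)
  have hj0 : j ≠ 0 := by
    rintro rfl
    exact absurd hj (by simpa using (Finite.one_lt_card (α := R)).ne')
  obtain ⟨x, hx⟩ := exists_prime_addOrderOf_dvd_card' (G := R) p (hj ▸ dvd_pow_self p hj0)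
  let m : R → R := fun r => ⟨p • (r : W), R.nsmul_mem r.2 p⟩
  have hm : Function.Surjective m := fun r => by
    obtain ⟨r', hr', he⟩ := honto r r.2
    exact ⟨⟨r', hr'⟩, Subtype.ext he⟩
  have hx0 : x = 0 := Finite.injective_iff_surjective.2 hm
    (Subtype.ext (by
      show p • (x : W) = p • ((0 : R) : W)
      rw [ZeroMemClass.coe_zero, nsmul_zero, ← AddSubgroup.coe_nsmul, ← hx, addOrderOf_nsmul_eq_zero]
      rfl))
  rw [hx0, addOrderOf_zero] at hx
  exact hp.out.one_lt.ne hx

/-- A faithful completely reducible group has no normal `p`-subgroup on a `p`-module. -/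
theorem eq_bot_of_normal_pgroup [Finite A] [Finite W] [FaithfulSMul A W] (h : CR A W) {p k : ℕ} [hp : Fact p.Prime]
    (hW : Nat.card W = p ^ k) (S : Subgroup A) [S.Normal] (hS : IsPGroup p S) : S = ⊥ := by
  let F : AddSubgroup W :=
    { carrier := {w | ∀ s ∈ S, s • w = w}
      zero_mem' := fun s _ => smul_zero s
      add_mem' := fun {x y} hx hy s hs => by rw [smul_add, hx s hs, hy s hs]
      neg_mem' := fun {x} hx s hs => by rw [smul_neg, hx s hs] }
  have hF : Inv A F := fun a w hw s hs => by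
    have := hw (a⁻¹ * s * a) (by simpa using ‹S.Normal›.conj_mem s hs a⁻¹)
    rw [mul_smul, mul_smul, inv_smul_eq_iff] at this
    exact this
  obtain ⟨T, hT, hd, hs⟩ := h F hF
  have hT0 : T = ⊥ := by
    by_contra hne
    obtain ⟨t, ht, htne⟩ := T.bot_or_exists_ne_zero.resolve_left hne
    haveI : Nontrivial T := ⟨⟨⟨t, ht⟩, 0, fun h => htne (congrArg Subtype.val h)⟩⟩
    letI := subAction hT
    obtain ⟨j, -, hj⟩ := (Nat.dvd_prime_pow hp.out).1 (hW ▸ T.card_addSubgroup_dvd_card)
    have hj0 : j ≠ 0 := by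
      rintro rfl
      exact absurd hj (by simpa using (Finite.one_lt_card (α := T)).ne')
    have h0 : (0 : T) ∈ MulAction.fixedPoints S T := fun s => smul_zero (s : A)
    obtain ⟨y, hy, hne0⟩ := hS.exists_fixed_point_of_prime_dvd_card_of_fixed_point (α := T)
      (hj ▸ dvd_pow_self p hj0) h0
    have : (y : W) ∈ F ⊓ T := ⟨fun s hs => congrArg Subtype.val (hy ⟨s, hs⟩), y.2⟩
    rw [hd, AddSubgroup.mem_bot] at this
    exact hne0 (Subtype.ext this).symm
  rw [hT0, sup_bot_eq] at hs
  refine (Subgroup.eq_bot_iff_forall _).2 fun s hsS => eq_one_of_smul_eq (V := W) fun x => ?_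
  exact (hs ▸ AddSubgroup.mem_top x : x ∈ F) s hsS

/-- A free action bounds the group. -/
theorem card_dvd_of_free {X : Type*} [MulAction A X] [Finite A] [Finite X]
    (h : ∀ (a : A) (x : X), a • x = x → a = 1) : Nat.card A ∣ Nat.card X := by
  haveI := Fintype.ofFinite (Quotient (MulAction.orbitRel A X))
  rw [Nat.card_congr (MulAction.selfEquivSigmaOrbitsQuotientStabilizer A X), Nat.card_sigma]
  refine Finset.dvd_sum fun ω _ => ?_
  have hs : MulAction.stabilizer A (Quotient.out ω) = ⊥ := (Subgroup.eq_bot_iff_forall _).2 fun a ha => h a _ ha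
  rw [hs, ← Subgroup.index_eq_card, Subgroup.index_bot]

/-- A faithful group on a module of order `r ^ 2` and exponent `r`. -/
theorem card_dvd_pairs [Finite A] [Finite W] [FaithfulSMul A W] {r : ℕ} [hr : Fact r.Prime]
    (hW : Nat.card W = r ^ 2) (hexp : ∀ w : W, r • w = 0) :
    Nat.card A ∣ (r ^ 2 - 1) * (r ^ 2 - r) := by
  classical
  let X := Σ x : {x : W // x ≠ 0}, {y : W // y ∉ AddSubgroup.zmultiples (x : W)}
  have hz : ∀ x : {x : W // x ≠ 0}, Nat.card (AddSubgroup.zmultiples (x : W)) = r := fun x => by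
    rw [Nat.card_zmultiples]; exact addOrderOf_eq_prime (hexp x) x.2
  have hX : Nat.card X = (r ^ 2 - 1) * (r ^ 2 - r) := by
    haveI := Fintype.ofFinite {x : W // x ≠ 0}
    rw [Nat.card_sigma, Finset.sum_const_nat (m := r ^ 2 - r), Finset.card_univ, ← Nat.card_eq_fintype_card]
    · congr 1
      haveI := Fintype.ofFinite W
      rw [Nat.card_eq_fintype_card, Fintype.card_subtype_compl, Fintype.card_subtype_eq,
        ← Nat.card_eq_fintype_card, hW]
    · intro x _
      haveI := Fintype.ofFinite W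
      rw [Nat.card_eq_fintype_card, Fintype.card_subtype_compl, ← Nat.card_eq_fintype_card, hW,
        ← Nat.card_eq_fintype_card]
      exact congrArg (r ^ 2 - ·) (hz x)
  letI : MulAction A X :=
    { smul := fun a q => ⟨⟨a • (q.1 : W), fun h => q.1.2 ((smul_eq_zero_iff_eq a).1 h)⟩,
        ⟨a • (q.2 : W), fun h => q.2.2 (by
          obtain ⟨n, hn⟩ := AddSubgroup.mem_zmultiples_iff.1 h
          refine AddSubgroup.mem_zmultiples_iff.2 ⟨n, MulAction.injective a ?_⟩
          show a • (n • (q.1 : W)) = a • (q.2 : W)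
          rw [← hn]
          exact (DistribSMul.toAddMonoidHom W a).map_zsmul _ _)⟩⟩
      one_smul := fun q => by
        obtain ⟨⟨x, hx⟩, y, hy⟩ := q
        exact Sigma.subtype_ext (Subtype.ext (one_smul A x)) (one_smul A y)
      mul_smul := fun a b q => by
        obtain ⟨⟨x, hx⟩, y, hy⟩ := q
        exact Sigma.subtype_ext (Subtype.ext (mul_smul a b x)) (mul_smul a b y) }
  refine hX ▸ card_dvd_of_free (X := X) fun a q hq => ?_
  obtain ⟨⟨x, hx⟩, y, hy⟩ := q
  have h1 : a • x = x := congrArg (fun q : X => (q.1 : W)) hq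
  have h2 : a • y = y := congrArg (fun q : X => (q.2 : W)) hq
  let F : AddSubgroup W :=
    { carrier := {w | a • w = w}
      zero_mem' := smul_zero a
      add_mem' := fun {u v} hu hv => by rw [Set.mem_ofPred_eq, smul_add, hu, hv]
      neg_mem' := fun {u} hu => by rw [Set.mem_ofPred_eq, smul_neg, hu] }
  have hlt : AddSubgroup.zmultiples x < F :=
    lt_of_le_of_ne (AddSubgroup.zmultiples_le.2 h1) fun e => hy (e ▸ h2)
  have hF : F = ⊤ := by
    obtain ⟨j, hj2, hj⟩ := (Nat.dvd_prime_pow hr.out).1 (hW ▸ F.card_addSubgroup_dvd_card)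
    refine AddSubgroup.eq_top_of_card_eq _ ?_
    have hgt : r < Nat.card F := by
      refine (hz ⟨x, hx⟩).symm.trans_lt ?_
      exact lt_of_not_ge fun hge => hlt.ne (AddSubgroup.eq_of_le_of_card_ge hlt.le hge)
    rw [hW, hj]
    interval_cases j
    · rw [hj, pow_zero] at hgt; exact absurd hr.out.two_le (by omega)
    · rw [hj, pow_one] at hgt; omega
    · rfl
  exact eq_one_of_smul_eq (V := W) fun w => (hF ▸ AddSubgroup.mem_top w : w ∈ F)

theorem exponent_two [Finite W] (h : CR A W) {r : ℕ} [Fact r.Prime] (hW : Nat.card W = r ^ 2) (w : W) : r • w = 0 :=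
  exponent_of_cr h hW w

/-- Modules of order nine. -/
theorem trivial_of_nine [Finite A] [Finite W] (hA : Odd (Nat.card A)) (h : CR A W) (hW : Nat.card W = 9) :
    ∀ (a : A) (x : W), a • x = x := by
  haveI : Fact (Nat.Prime 3) := ⟨Nat.prime_three⟩
  have hW' : Nat.card W = 3 ^ 2 := by rw [hW]; norm_num
  have h1 := card_dvd_pairs (A := Img A W) (W := W) hW' (exponent_two (A := A) h hW')
  have h3 : Nat.card (Img A W) ∣ 3 := by
    have hodd : Odd (Nat.card (Img A W)) := Img.odd hA
    have hco : Nat.Coprime (Nat.card (Img A W)) 16 :=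
      (Nat.Coprime.pow_right 4 ((Nat.prime_two.coprime_iff_not_dvd.2 hodd.not_two_dvd_nat).symm) :)
    exact hco.dvd_of_dvd_mul_left (by simpa using h1)
  have hp : IsPGroup 3 (⊤ : Subgroup (Img A W)) := by
    obtain ⟨i, -, hi⟩ := (Nat.dvd_prime_pow Nat.prime_three).1 (show Nat.card (Img A W) ∣ 3 ^ 1 by simpa using h3)
    exact IsPGroup.of_card (n := i) (Subgroup.card_top.trans hi)
  have htop := eq_bot_of_normal_pgroup (Img.cr_iff.2 h) hW' ⊤ hp
  intro a x
  have : Img.of a = (1 : Img A W) := Subgroup.mem_bot.1 (htop ▸ Subgroup.mem_top _)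
  rw [← Img.of_smul, this, one_smul]

/-- Modules of order twenty-five. -/
theorem card_le_of_twenty_five [Finite A] [Finite W] [FaithfulSMul A W] (hA : Odd (Nat.card A)) (h : CR A W)
    (hW : Nat.card W = 25) : Nat.card A ≤ 15 := by
  haveI : Fact (Nat.Prime 5) := ⟨by norm_num⟩
  have hW' : Nat.card W = 5 ^ 2 := by rw [hW]; norm_num
  have h1 := card_dvd_pairs (A := A) hW' (exponent_two h hW')
  have hco : Nat.Coprime (Nat.card A) 32 :=
    (Nat.Coprime.pow_right 5 ((Nat.prime_two.coprime_iff_not_dvd.2 hA.not_two_dvd_nat).symm) :)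
  exact Nat.le_of_dvd (by norm_num) (hco.dvd_of_dvd_mul_left (show _ ∣ 32 * 15 by simpa using h1))

/-- Modules of order forty-nine. -/
theorem card_le_of_forty_nine [Finite A] [Finite W] [FaithfulSMul A W] (hA : Odd (Nat.card A)) (h : CR A W)
    (hW : Nat.card W = 49) : Nat.card A ≤ 9 := by
  haveI : Fact (Nat.Prime 7) := ⟨by norm_num⟩
  have hW' : Nat.card W = 7 ^ 2 := by rw [hW]; norm_num
  have h1 := card_dvd_pairs (A := A) hW' (exponent_two h hW')
  have hco : Nat.Coprime (Nat.card A) 32 :=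
    (Nat.Coprime.pow_right 5 ((Nat.prime_two.coprime_iff_not_dvd.2 hA.not_two_dvd_nat).symm) :)
  have h63 : Nat.card A ∣ 7 * 9 := hco.dvd_of_dvd_mul_left (show _ ∣ 32 * (7 * 9) by simpa using h1)
  by_cases h7 : 7 ∣ Nat.card A
  · exfalso
    obtain ⟨P⟩ := (inferInstance : Nonempty (Sylow 7 A))
    have hP7 : 7 ∣ Nat.card (P : Subgroup A) := P.dvd_card_of_dvd_card h7
    have hidx : (P : Subgroup A).index ∣ 9 := by
      have h2 : Nat.card (P : Subgroup A) * (P : Subgroup A).index ∣ 7 * 9 := by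
        rwa [Subgroup.card_mul_index]
      exact Nat.dvd_of_mul_dvd_mul_left (by norm_num : 0 < 7)
        ((Nat.mul_dvd_mul_right hP7 _).trans h2)
    have hn : Nat.card (Sylow 7 A) ≡ 1 [MOD 7] := card_sylow_modEq_one 7 A
    have hle := Nat.le_of_dvd (by norm_num) (P.card_dvd_index.trans hidx)
    have hdiv := P.card_dvd_index.trans hidx
    have hone : Nat.card (Sylow 7 A) = 1 := by
      have : Nat.card (Sylow 7 A) % 7 = 1 := hn
      have hpos : 0 < Nat.card (Sylow 7 A) := Nat.card_pos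
      interval_cases hc : Nat.card (Sylow 7 A) <;> omega
    haveI : Subsingleton (Sylow 7 A) := (Nat.card_eq_one_iff_unique.1 hone).1
    haveI := P.normal_of_subsingleton
    have hbot := eq_bot_of_normal_pgroup h hW' (P : Subgroup A) P.2
    rw [hbot, Subgroup.card_bot] at hP7
    norm_num at hP7
  · exact Nat.le_of_dvd (by norm_num)
      (((Nat.Prime.coprime_iff_not_dvd (by norm_num)).2 h7).symm.dvd_of_dvd_mul_left h63)

/-- An irreducible group of odd order on a module of order eighty-one. -/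
theorem card_le_of_eighty_one_irr [Finite A] [Finite W] [FaithfulSMul A W] (hA : Odd (Nat.card A)) (h : Irr A W)
    (hW : Nat.card W = 81) : Nat.card A ≤ 5 := by
  classical
  haveI : Fact (Nat.Prime 3) := ⟨Nat.prime_three⟩
  by_cases h1 : Nat.card A = 1
  · omega
  haveI : Group.IsSolvable A := OddOrderTheorem.solvable hA
  haveI : Group.IsSolvable (⊤ : Subgroup A) := inferInstance
  have htop : (⊤ : Subgroup A) ≠ ⊥ := fun e => h1 (by rw [← Subgroup.card_top (G := A), e, Subgroup.card_bot])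
  obtain ⟨q, hq, P, hPn, hP0, -, hPc, hPq, hPexp, -⟩ := Solvable.exists_minimal_normal_pGroup htop
  haveI := hPn
  haveI := Fact.mk hq
  have hcr := h.cr
  have hW4 : Nat.card W = 3 ^ 4 := by rw [hW]; norm_num
  -- fixed vectors of a subgroup
  have hfix0 : ∀ w : W, (∀ s ∈ P, s • w = w) → w = 0 := by
    let F : AddSubgroup W :=
      { carrier := {w | ∀ s ∈ P, s • w = w}
        zero_mem' := fun s _ => smul_zero s
        add_mem' := fun {x y} hx hy s hs => by rw [smul_add, hx s hs, hy s hs]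
        neg_mem' := fun {x} hx s hs => by rw [smul_neg, hx s hs] }
    have hF : Inv A F := fun a w hw s hs => by
      have := hw (a⁻¹ * s * a) (by simpa using hPn.conj_mem s hs a⁻¹)
      rw [mul_smul, mul_smul, inv_smul_eq_iff] at this
      exact this
    rcases h F hF with hb | ht
    · intro w hw
      exact AddSubgroup.mem_bot.1 (hb ▸ (show w ∈ F from hw))
    · exact absurd ((Subgroup.eq_bot_iff_forall _).2 fun s hs => eq_one_of_smul_eq (V := W) fun x =>
        (ht ▸ AddSubgroup.mem_top x : x ∈ F) s hs) hP0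
  -- a `P`-stable subgroup has order `1` modulo `q`
  have hmod : ∀ U : AddSubgroup W, (∀ s ∈ P, ∀ u ∈ U, s • u ∈ U) → Nat.card U ≡ 1 [MOD q] := by
    intro U hU
    letI : MulAction P U :=
      { smul := fun s u => ⟨(s : A) • (u : W), hU s s.2 u u.2⟩
        one_smul := fun u => Subtype.ext (one_smul A (u : W))
        mul_smul := fun s t u => Subtype.ext (mul_smul (s : A) t (u : W)) }
    have hone : Nat.card (MulAction.fixedPoints P U) = 1 := by
      rw [Nat.card_eq_one_iff_unique]
      refine ⟨⟨fun x y => Subtype.ext (Subtype.ext ?_)⟩, ⟨⟨0, fun s => Subtype.ext (smul_zero (s : A))⟩⟩⟩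
      rw [hfix0 _ fun s hs => congrArg Subtype.val (x.2 ⟨s, hs⟩),
        hfix0 _ fun s hs => congrArg Subtype.val (y.2 ⟨s, hs⟩)]
    exact hone ▸ hPq.card_modEq_card_fixedPoints (α := U)
  have hq5 : q = 5 := by
    have hqA : q ∣ Nat.card A := by
      obtain ⟨i, hi⟩ := IsPGroup.iff_card.1 hPq
      have : i ≠ 0 := by rintro rfl; exact hP0 (Subgroup.card_eq_one.1 hi)
      exact (dvd_pow_self q this).trans (hi ▸ P.card_subgroup_dvd_card)
    have hm := hmod ⊤ fun s _ u _ => AddSubgroup.mem_top _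
    rw [AddSubgroup.card_top, hW] at hm
    have h80 : q ∣ 2 ^ 4 * 5 := (Nat.modEq_iff_dvd' (by norm_num)).1 hm.symm
    rcases hq.dvd_mul.1 h80 with h2 | h5
    · have hq2 := (Nat.prime_dvd_prime_iff_eq hq Nat.prime_two).1 (hq.dvd_of_dvd_pow h2)
      exact absurd (hq2 ▸ hqA) hA.not_two_dvd_nat
    · exact (Nat.prime_dvd_prime_iff_eq hq (by norm_num)).1 h5
  subst hq5
  -- what commutes with `P` is free on the non-zero vectors
  have hfree : ∀ c : A, (∀ s ∈ P, c * s = s * c) → ∀ w : W, w ≠ 0 → c • w = w → c = 1 := by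
    intro c hc w hw hcw
    let U : AddSubgroup W :=
      { carrier := {u | c • u = u}
        zero_mem' := smul_zero c
        add_mem' := fun {u v} hu hv => by rw [Set.mem_ofPred_eq, smul_add, hu, hv]
        neg_mem' := fun {u} hu => by rw [Set.mem_ofPred_eq, smul_neg, hu] }
    have hm := hmod U fun s hs u (hu : c • u = u) => show c • s • u = s • u by
      rw [← mul_smul, hc s hs, mul_smul, hu]
    obtain ⟨j, hj4, hj⟩ := (Nat.dvd_prime_pow Nat.prime_three).1 (hW4 ▸ U.card_addSubgroup_dvd_card)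
    rw [hj] at hm
    have hj' : j = 0 ∨ j = 4 := by
      have hm' : 3 ^ j % 5 = 1 := hm
      interval_cases j <;> simp at hm' ⊢
    rcases hj' with rfl | rfl
    · have hU : U = ⊥ := U.eq_bot_of_card_eq (by rw [hj, pow_zero])
      exact absurd (AddSubgroup.mem_bot.1 (hU ▸ (show w ∈ U from hcw))) hw
    · have hU : U = ⊤ := U.eq_top_of_card_eq (by rw [hj, hW4])
      exact eq_one_of_smul_eq (V := W) fun x => (hU ▸ AddSubgroup.mem_top x : x ∈ U)
  letI : MulAction A {w : W // w ≠ 0} :=
    { smul := fun a w => ⟨a • (w : W), fun h => w.2 ((smul_eq_zero_iff_eq a).1 h)⟩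
      one_smul := fun w => Subtype.ext (one_smul A (w : W))
      mul_smul := fun a b w => Subtype.ext (mul_smul a b (w : W)) }
  have h80 : Nat.card {w : W // w ≠ 0} = 80 := by
    haveI := Fintype.ofFinite W
    rw [Nat.card_eq_fintype_card, Fintype.card_subtype_compl, Fintype.card_subtype_eq,
      ← Nat.card_eq_fintype_card, hW]
  have hPcomm : ∀ s ∈ P, ∀ t ∈ P, s * t = t * s := fun s hs t ht =>
    congrArg Subtype.val (hPc.is_comm.comm (⟨s, hs⟩ : P) ⟨t, ht⟩)
  have hP5 : Nat.card P = 5 := by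
    have hd : Nat.card P ∣ 80 := h80 ▸ card_dvd_of_free (A := P) (X := {w : W // w ≠ 0})
      fun s w hw => Subtype.ext (hfree s (fun t ht => hPcomm s s.2 t ht) w w.2 (congrArg Subtype.val hw))
    obtain ⟨i, hi⟩ := IsPGroup.iff_card.1 hPq
    rw [hi] at hd ⊢
    have hi1 : i ≠ 0 := by rintro rfl; exact hP0 (Subgroup.card_eq_one.1 hi)
    have hi2 : i < 2 := by
      by_contra hge
      have := (pow_dvd_pow 5 (not_lt.1 hge)).trans hd
      norm_num at this
    rw [show i = 1 by omega, pow_one]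
  haveI : IsCyclic P := isCyclic_of_prime_card hP5
  have hcent : ∀ a : A, ∀ s ∈ P, a * s = s * a := by
    intro a s hs
    set f := (MulAut.conjNormal (H := P)) a with hf
    have h4 : Nat.card (MulAut P) = 4 := by rw [IsCyclic.card_mulAut, hP5]; rfl
    have hf1 : f = 1 := by
      have hd : orderOf f ∣ 4 := h4 ▸ orderOf_dvd_natCard f
      have hdA : orderOf f ∣ Nat.card A := (orderOf_map_dvd _ a).trans (orderOf_dvd_natCard a)
      have hco : Nat.Coprime (Nat.card A) 4 :=
        (Nat.Coprime.pow_right 2 ((Nat.prime_two.coprime_iff_not_dvd.2 hA.not_two_dvd_nat).symm) :)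
      exact orderOf_eq_one_iff.1 (Nat.eq_one_of_dvd_coprimes hco hdA hd)
    have h2 := congrArg (fun g : MulAut P => ((g ⟨s, hs⟩ : P) : A)) hf1
    simp only [hf, MulAut.conjNormal_apply, MulAut.one_apply] at h2
    exact mul_inv_eq_iff_eq_mul.1 h2
  have hd : Nat.card A ∣ 16 * 5 := by
    rw [show 16 * 5 = 80 from rfl, ← h80]
    exact card_dvd_of_free (A := A) (X := {w : W // w ≠ 0})
      fun a w hw => hfree a (hcent a) w w.2 (congrArg Subtype.val hw)
  have hco : Nat.Coprime (Nat.card A) 16 :=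
    (Nat.Coprime.pow_right 4 ((Nat.prime_two.coprime_iff_not_dvd.2 hA.not_two_dvd_nat).symm) :)
  exact Nat.le_of_dvd (by norm_num) (hco.dvd_of_dvd_mul_left hd)

/-- Modules of order eighty-one whose submodules have square order. -/
theorem card_le_of_eighty_one [Finite A] [Finite W] [FaithfulSMul A W] (hA : Odd (Nat.card A)) (h : CR A W)
    (hW : Nat.card W = 81) (hsq : ∀ U : AddSubgroup W, Inv A U → ∃ k, Nat.card U = k * k) : Nat.card A ≤ 5 := by
  by_cases hirr : Irr A W
  · exact card_le_of_eighty_one_irr hA hirr hW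
  simp only [Irr, not_forall, not_or] at hirr
  obtain ⟨U, hU, hU0, hU1⟩ := hirr
  obtain ⟨T, hT, hd, hs⟩ := h U hU
  have hT0 : T ≠ ⊥ := fun e => hU1 (by rw [← hs, e, sup_bot_eq])
  have hmul : Nat.card U * Nat.card T = 81 := by
    rw [← hW, ← Nat.card_prod]
    refine Nat.card_eq_of_bijective (fun q : U × T => (q.1 : W) + q.2) ⟨fun q q' e => ?_, fun w => ?_⟩
    · have hm : (q.1 : W) - q'.1 ∈ U ⊓ T := by
        refine AddSubgroup.mem_inf.2 ⟨sub_mem q.1.2 q'.1.2, ?_⟩
        rw [show (q.1 : W) - q'.1 = (q'.2 : W) - q.2 by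
          rw [sub_eq_sub_iff_add_eq_add]; exact e.trans (add_comm _ _)]
        exact sub_mem q'.2.2 q.2.2
      rw [hd, AddSubgroup.mem_bot, sub_eq_zero] at hm
      have e' : (q.1 : W) + q.2 = q'.1 + q'.2 := e
      rw [hm, add_right_inj] at e'
      exact Prod.ext (Subtype.ext hm) (Subtype.ext e')
    · obtain ⟨u, hu, t, ht, rfl⟩ := AddSubgroup.mem_sup.1 (hs ▸ AddSubgroup.mem_top w : w ∈ U ⊔ T)
      exact ⟨(⟨u, hu⟩, ⟨t, ht⟩), rfl⟩
  have h9 : Nat.card U = 9 ∧ Nat.card T = 9 := by
    obtain ⟨i, hi⟩ := hsq U hU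
    obtain ⟨j, hj⟩ := hsq T hT
    have hi2 : 2 ≤ i := by
      by_contra hlt
      rcases (show i = 0 ∨ i = 1 by omega) with rfl | rfl
      · exact absurd hi Nat.card_pos.ne'
      · exact hU0 (U.eq_bot_of_card_eq hi)
    have hj2 : 2 ≤ j := by
      by_contra hlt
      rcases (show j = 0 ∨ j = 1 by omega) with rfl | rfl
      · exact absurd hj Nat.card_pos.ne'
      · exact hT0 (T.eq_bot_of_card_eq hj)
    rw [hi, hj] at hmul ⊢
    have h81 : i * j = 9 := Nat.mul_self_inj.1 (by linarith)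
    have hle : i ≤ 4 := by nlinarith
    interval_cases i <;> omega
  have h1 := letI := subAction hU; trivial_of_nine hA (h.sub hU) h9.1
  have h2 := letI := subAction hT; trivial_of_nine hA (h.sub hT) h9.2
  have hone : ∀ a : A, a = 1 := fun a => eq_one_of_smul_eq (V := W) fun w => by
    obtain ⟨u, hu, t, ht, rfl⟩ := AddSubgroup.mem_sup.1 (hs ▸ AddSubgroup.mem_top w : w ∈ U ⊔ T)
    have e1 : a • u = u := congrArg Subtype.val (h1 a ⟨u, hu⟩)
    have e2 : a • t = t := congrArg Subtype.val (h2 a ⟨t, ht⟩)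
    rw [smul_add, e1, e2]
  haveI : Subsingleton A := ⟨fun a b => (hone a).trans (hone b).symm⟩
  rw [Nat.card_of_subsingleton (1 : A)]
  norm_num

end Cfsg.Agent.OddBaseTwo
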